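import Cfsg.Agent.CharGraph.PDegree

/-!
# The induction for the derived length of a Sylow subgroup of a `p`-solvable group
-/

namespace Cfsg.Agent.CharGraph

open Cfsg
open Cfsg.Agent.Char (irr_charDegree_spec)

universe u

/-- For `p`-solvable `G`: without degrees divisible by `p` the Sylow `p`-subgroup is normal abelian,
and in general its derived length is at most one more than the number of such degrees. -/
theorem pSolvable_degree_bound {p : ℕ} [Fact p.Prime] {G : Type u} [Group G] [Finite G]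
    (hG : IsPSolvable p G) (P : Sylow p G) :
    (degP p G = 0 → (P : Subgroup G).Normal ∧ commutator (P : Subgroup G) = ⊥) ∧
      derivedSeries (P : Subgroup G) (degP p G + 1) = ⊥ := by
  classical
  induction hc : Nat.card G using Nat.strong_induction_on generalizing G with
  | _ c ih =>
  subst hc
  have hp : p.Prime := Fact.out
  rcases subsingleton_or_nontrivial G with hs | hnt
  · haveI : Subsingleton (P : Subgroup G) := inferInstance
    exact ⟨fun _ => ⟨by rw [Subsingleton.elim (P : Subgroup G) ⊥]; infer_instance,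
      Subsingleton.elim _ _⟩, Subsingleton.elim _ _⟩
  set A := pCore p G with hA
  obtain ⟨N, hNn, hNne, hkind⟩ : ∃ N : Subgroup G, N.Normal ∧ N ≠ ⊥ ∧
      ((Nat.card N).Coprime p ∨
        (pPrimeCore p G = ⊥ ∧ N ≤ A ∧ (∀ a ∈ N, ∀ b ∈ N, a * b = b * a) ∧
          (⁅A, A⁆ = ⊥ ∨ N ≤ ⁅A, A⁆))) := by
    by_cases hO : pPrimeCore p G = ⊥
    · have hAne : A ≠ ⊥ := PSolv.pCore_ne_bot_of_pPrimeCore_eq_bot hG hO
      haveI : A.Normal := inferInstanceAs (pCore p G).Normal
      set L := if ⁅A, A⁆ = ⊥ then A else ⁅A, A⁆ with hL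
      haveI : L.Normal := by rw [hL]; split_ifs <;> infer_instance
      have hLA : L ≤ A := by
        rw [hL]; split_ifs; exacts [le_rfl, Subgroup.commutator_le_self A]
      obtain ⟨N, hNn, hNne, hNL, hmin⟩ := MinNormal.exists_minimal_normal_le L (by
        rw [hL]; split_ifs with h; exacts [hAne, h])
      have hNp : IsPGroup p N := (PSolv.isPGroup_pCore p G).to_le (hNL.trans hLA)
      haveI : Group.IsNilpotent N := hNp.isNilpotent
      haveI := hNn
      have hcomm := MinNormal.isMulCommutative N hmin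
      refine ⟨N, hNn, hNne, Or.inr ⟨hO, hNL.trans hLA, fun a ha b hb =>
        congrArg Subtype.val (hcomm.1.comm ⟨a, ha⟩ ⟨b, hb⟩), ?_⟩⟩
      by_cases h : ⁅A, A⁆ = ⊥
      · exact Or.inl h
      · rw [hL, if_neg h] at hNL; exact Or.inr hNL
    · exact ⟨pPrimeCore p G, inferInstance, hO, Or.inl (PSolv.coprime_card_pPrimeCore p G)⟩
  haveI := hNn
  -- the quotient
  set π := QuotientGroup.mk' N with hπ
  have hπs : Function.Surjective π := QuotientGroup.mk'_surjective N
  have hlt : Nat.card (G ⧸ N) < Nat.card G := by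
    conv_rhs => rw [Subgroup.card_eq_card_quotient_mul_card_subgroup N]
    exact lt_mul_of_one_lt_right Nat.card_pos (N.one_lt_card_iff_ne_bot.2 hNne)
  let Q : Sylow p (G ⧸ N) := P.mapSurjective hπs
  have hQ : (Q : Subgroup (G ⧸ N)) = (P : Subgroup G).map π := rfl
  obtain ⟨ihn, ihd⟩ := ih _ hlt (PSolv.isPSolvable_quotient hG N) Q rfl
  let g : (P : Subgroup G) →* (Q : Subgroup (G ⧸ N)) := π.subgroupMap (P : Subgroup G)
  have hgker : ∀ a, a ∈ g.ker → ((a : (P : Subgroup G)) : G) ∈ N := fun a ha =>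
    (QuotientGroup.eq_one_iff _).1 (congrArg Subtype.val ha)
  have hle := degP_quotient_le (p := p) N
  have hanti : ∀ {m n : ℕ}, m ≤ n → derivedSeries (P : Subgroup G) m = ⊥ →
      derivedSeries (P : Subgroup G) n = ⊥ := fun h h' =>
    le_bot_iff.1 ((derivedSeries_antitone _ h).trans h'.le)
  have hzero : degP p G = 0 → (P : Subgroup G).Normal ∧ commutator (P : Subgroup G) = ⊥ := by
    intro h0
    have hQn := (ihn (by omega)).1
    have hn : (P : Subgroup G).Normal := by
      have hLn : ((P : Subgroup G) ⊔ N).Normal := by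
        have h1 := (hQ ▸ hQn : ((P : Subgroup G).map π).Normal).comap π
        rwa [Subgroup.comap_map_eq, QuotientGroup.ker_mk'] at h1
      rcases hkind with hcop | ⟨-, hNA, -, -⟩
      · set L := (P : Subgroup G) ⊔ N with hL
        haveI := hLn
        haveI : ((P.subtype (le_sup_left : (P : Subgroup G) ≤ L)) : Subgroup L).Normal :=
          sylow_normal_of_sup_eq_top (degP_normal_eq_zero L h0) (N.subgroupOf L) (by
            rwa [Nat.card_congr (Subgroup.subgroupOfEquivOfLe
              (le_sup_right : N ≤ L)).toEquiv]) _ (by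
            rw [Sylow.coe_subtype, ← Subgroup.subgroupOf_sup le_sup_left le_sup_right,
              Subgroup.subgroupOf_self])
        have h2 := PSolv.map_subtype_normal
          (Sylow.characteristic_of_normal (P.subtype (le_sup_left : (P : Subgroup G) ≤ L)) this)
        rwa [Sylow.coe_subtype, Subgroup.map_subgroupOf_eq_of_le le_sup_left] at h2
      · rwa [sup_eq_left.2 (hNA.trans (PSolv.pCore_le_sylow P))] at hLn
    haveI := hn
    exact ⟨hn, commutator_eq_bot_of_degP_eq_zero P.isPGroup' (degP_normal_eq_zero _ h0)⟩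
  refine ⟨hzero, ?_⟩
  rcases Nat.eq_zero_or_pos (degP p G) with h0 | hpos
  · rw [h0, zero_add, derivedSeries_one]
    exact (hzero h0).2
  rcases hkind with hcop | ⟨hO, hNA, hNab, hAA⟩
  · refine hanti (Nat.add_le_add_right hle 1) (derivedSeries_eq_bot_of_injective g ?_ ihd)
    rw [← MonoidHom.ker_eq_bot_iff, Subgroup.eq_bot_iff_forall]
    intro a ha
    obtain ⟨k, hk⟩ := IsPGroup.iff_card.1 P.isPGroup'
    exact Subtype.ext (orderOf_eq_one_iff.1 (Nat.eq_one_of_dvd_coprimes (hcop.pow_right k)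
      (N.orderOf_dvd_natCard (hgker a ha))
      (hk ▸ (P : Subgroup G).orderOf_dvd_natCard a.2)))
  rcases hle.lt_or_eq with hlt' | heq
  · exact hanti (by omega) (derivedSeries_succ_eq_bot g ihd fun a ha b hb =>
      Subtype.ext (hNab _ (hgker a ha) _ (hgker b hb)))
  -- all characters nontrivial on `N` have degree prime to `p`
  have hover : ∀ χ : IrrCharacter G, (∃ n ∈ N, (χ : G → ℂ) n ≠ (χ : G → ℂ) 1) →
      ¬ p ∣ charDegree (χ : G → ℂ) := fun χ ⟨n, hn, hne⟩ hd =>
    hne (apply_eq_one_of_degP_quotient_eq N heq χ hd hn)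
  haveI : A.Normal := inferInstanceAs (pCore p G).Normal
  have hAne : A ≠ ⊥ := fun h => hNne (le_bot_iff.1 (h ▸ hNA))
  have hAab : ⁅A, A⁆ = ⊥ := by
    refine hAA.resolve_right fun hNA' => ?_
    obtain ⟨n, hn, hn1⟩ : ∃ n ∈ N, n ≠ 1 := by
      obtain ⟨x, hx⟩ := Subgroup.ne_bot_iff_exists_ne_one.1 hNne
      exact ⟨x, x.2, fun h => hx (Subtype.ext h)⟩
    obtain ⟨χ, hχ⟩ := Char.exists_irr_ne_degree hn1
    have hd := hover χ ⟨n, hn, hχ⟩
    letI := Fintype.ofFinite G
    letI := Fintype.ofFinite A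
    obtain ⟨hc0, hc1⟩ := irr_charDegree_spec χ.2
    obtain ⟨θ, e, hθ, he, hres, hdeg⟩ := CharInd.clifford_exists A χ.2
    obtain ⟨hθ0, hθ1⟩ := irr_charDegree_spec hθ
    have hlin : charDegree θ = 1 := by
      refine charDegree_eq_one_of_not_dvd (PSolv.isPGroup_pCore p G) ⟨θ, hθ⟩ fun h =>
        hd (h.trans ⟨e * (CharInd.conjClass A θ).card, ?_⟩)
      rw [hc1, hθ1, ← Nat.cast_mul, ← Nat.cast_mul, Nat.cast_inj] at hdeg
      rw [hdeg]; ring
    apply hχ
    have hn' : (⟨n, hNA hn⟩ : A) ∈ commutator A := by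
      have h1 := hNA' hn
      rw [← Subgroup.map_subtype_commutator] at h1
      obtain ⟨x, hx, hxn⟩ := h1
      rwa [show x = (⟨n, hNA hn⟩ : A) from Subtype.ext hxn] at hx
    refine ((congrFun hres ⟨n, hNA hn⟩).trans ?_).trans (congrFun hres 1).symm
    simp only [Pi.smul_apply, Finset.sum_apply]
    congr 1
    refine Finset.sum_congr rfl fun φ hφ => ?_
    obtain ⟨x, rfl⟩ := (CharInd.mem_conjClass A).1 hφ
    have h1 : CharInd.conjChar A x θ 1 = 1 := by
      rw [CharInd.conjChar_apply, show (⟨x * ((1 : A) : G) * x⁻¹, _⟩ : A) = 1 from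
        Subtype.ext (by simp), hθ1, hlin, Nat.cast_one]
    rw [Char.linear_eq_one_of_mem_commutator
      (Char.isCharacter_of_irr (CharInd.conjChar_irr A x hθ)) h1 hn', h1]
  refine hanti (show 2 ≤ degP p G + 1 by omega) (derived_two_of_pPrime_over A N
    (PSolv.isPGroup_pCore p G) (fun a ha b hb =>
      ((Subgroup.commutator_eq_bot_iff_le_centralizer.1 hAab) hb a ha)) hNA hNne hover
    (fun T hAT hT0 S => ?_) P)
  have hsmall : Nat.card (T ⧸ A.subgroupOf T) < Nat.card G := by
    refine lt_of_lt_of_le ?_ (Subgroup.card_le_card_group T)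
    conv_rhs => rw [Subgroup.card_eq_card_quotient_mul_card_subgroup (A.subgroupOf T)]
    refine lt_mul_of_one_lt_right Nat.card_pos ((A.subgroupOf T).one_lt_card_iff_ne_bot.2 fun h => ?_)
    rw [Subgroup.subgroupOf_eq_bot] at h
    exact hAne (h.eq_bot_of_le hAT)
  exact ((ih _ hsmall (PSolv.isPSolvable_quotient (PSolv.isPSolvable_subgroup hG T) _) S rfl).1
    hT0).2

end Cfsg.Agent.CharGraph
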