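import Cfsg.Agent.CharGraph.Dichotomy
import Mathlib.Combinatorics.SimpleGraph.Connectivity.Connected

/-!
# The degree graph of a solvable group has at most two components
-/

namespace Cfsg.Agent.CharGraph

open Cfsg

universe u

variable {G : Type u} [Group G]

theorem charDegrees_of_commutator_eq_bot (h : commutator G = ⊥) {d : ℕ}
    (hd : d ∈ charDegrees G) : d = 1 := by
  obtain ⟨χ, rfl⟩ := hd
  have hcomm : ∀ a b : G, a * b = b * a := fun a b => by
    have h1 : a * b * a⁻¹ * b⁻¹ ∈ commutator G :=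
      Subgroup.commutator_mem_commutator (Subgroup.mem_top a) (Subgroup.mem_top b)
    rw [h, Subgroup.mem_bot, mul_inv_eq_one, mul_inv_eq_iff_eq_mul] at h1
    exact h1
  rw [charDegree, Char.irr_degree_one_of_comm hcomm χ.2]
  simp

theorem card_components_le_two [Finite G] [Group.IsSolvable G] :
    Nat.card ((degreeGraph G).induce (degreePrimes G)).ConnectedComponent ≤ 2 := by
  classical
  by_cases hna : commutator G = ⊥
  · haveI : IsEmpty ((degreeGraph G).induce (degreePrimes G)).ConnectedComponent := ⟨fun C => by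
      induction C using SimpleGraph.ConnectedComponent.ind with
      | h v =>
        obtain ⟨hv, d, hd, hvd⟩ := v.2
        rw [charDegrees_of_commutator_eq_bot hna hd] at hvd
        exact hv.ne_one (Nat.dvd_one.1 hvd)⟩
    simp
  set Γ := (degreeGraph G).induce (degreePrimes G)
  have hadj : ∀ (r s : ℕ) (hr : r ∈ degreePrimes G) (hs : s ∈ degreePrimes G) (d : ℕ),
      d ∈ charDegrees G → r ∣ d → s ∣ d → Γ.Reachable ⟨r, hr⟩ ⟨s, hs⟩ := by
    intro r s hr hs d hd hrd hsd
    by_cases h : r = s
    · subst h; exact SimpleGraph.Reachable.refl _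
    · exact SimpleGraph.Adj.reachable
        ⟨h, hr.1, hs.1, d, hd, ((Nat.coprime_primes hr.1 hs.1).2 h).mul_dvd_of_dvd_of_dvd hrd hsd⟩
  obtain ⟨v, w, hvw⟩ : ∃ v w : degreePrimes G, ∀ x, Γ.Reachable v x ∨ Γ.Reachable w x := by
    rcases degree_dichotomy G hna with ⟨p, j, hp, hj, hpj, hall⟩ | ⟨q, f, hq, hf, hfd, hall⟩
    · have hpP : p ∈ degreePrimes G := ⟨hp, _, hpj, dvd_pow_self p hj.ne'⟩
      refine ⟨⟨p, hpP⟩, ⟨p, hpP⟩, fun ⟨r, hr⟩ => Or.inl ?_⟩
      obtain ⟨-, d, hd, hrd⟩ := id hr
      rcases hall d hd with h | h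
      · exact hadj p r hpP hr d hd h hrd
      · exact hadj p r hpP hr _ h (dvd_mul_of_dvd_left (dvd_pow_self p hj.ne') _)
          (dvd_mul_of_dvd_right hrd _)
    · obtain ⟨s, hs, hsf⟩ := Nat.exists_prime_and_dvd hf.ne'
      have hsP : s ∈ degreePrimes G := ⟨hs, f, hfd, hsf⟩
      let w : degreePrimes G := if h : q ∈ degreePrimes G then ⟨q, h⟩ else ⟨s, hsP⟩
      refine ⟨⟨s, hsP⟩, w, fun ⟨r, hr⟩ => ?_⟩
      obtain ⟨-, d, hd, hrd⟩ := id hr
      rcases hall d hd with h | ⟨e, he, hde, -⟩
      · have hqP : q ∈ degreePrimes G := ⟨hq, d, hd, h⟩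
        refine Or.inr ?_
        simp only [w, dif_pos hqP]
        exact hadj q r hqP hr d hd h hrd
      · exact Or.inl (hadj s r hsP hr _ he (dvd_mul_of_dvd_left hsf e) (hrd.trans hde))
  calc Nat.card Γ.ConnectedComponent
      ≤ Nat.card Bool := Nat.card_le_card_of_surjective
        (fun b => Γ.connectedComponentMk (cond b v w)) (by
          intro C
          induction C using SimpleGraph.ConnectedComponent.ind with
          | h x =>
            rcases hvw x with h | h
            · exact ⟨true, SimpleGraph.ConnectedComponent.sound h⟩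
            · exact ⟨false, SimpleGraph.ConnectedComponent.sound h⟩)
    _ = 2 := by simp

end Cfsg.Agent.CharGraph
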