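import Cfsg.Agent.CharGraph.PDegreeBasic
import Cfsg.Agent.CharExt.Linear
import Cfsg.Agent.RealChar.Inertia
import Cfsg.Agent.Lib.MinimalNormal

/-!
# Derived length of a Sylow subgroup against the number of degrees divisible by `p`

For a `p`-solvable group: if no degree is divisible by `p` the Sylow `p`-subgroup is normal and
abelian, and in general its derived length is at most one more than the number of characters of
degree divisible by `p`.
-/

namespace Cfsg.Agent.CharGraph

open Cfsg
open Cfsg.Agent.Char (irr_charDegree_spec)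
open scoped ComplexConjugate

universe u

variable {G : Type u} [Group G] [Finite G] {p : ℕ} [Fact p.Prime]

/-- With no degree divisible by `p`, a Sylow `p`-subgroup that covers the quotient by a normal
`p'`-subgroup is normal. -/
theorem sylow_normal_of_sup_eq_top (h0 : degP p G = 0) (N : Subgroup G) [N.Normal]
    (hN : (Nat.card N).Coprime p) (P : Sylow p G) (htop : (P : Subgroup G) ⊔ N = ⊤) :
    (P : Subgroup G).Normal := by
  classical
  letI := Fintype.ofFinite G
  letI := Fintype.ofFinite N
  obtain ⟨k, hk⟩ := IsPGroup.iff_card.1 P.isPGroup'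
  have hidx : N.index ∣ p ^ k := by
    rw [← hk, ← Subgroup.relIndex_top_right N, ← htop, Subgroup.relIndex_sup_right]
    exact Subgroup.relIndex_dvd_card _ _
  -- every class of `N` is fixed
  have hcls : ∀ (g : G) (n : N), IsConj n ((MulAut.conjNormal g : MulAut N) n) := by
    intro g n
    refine BlocksChar.isConj_of_forall_irr_eq fun θ => ?_
    obtain ⟨χ, hχ⟩ := exists_irr_over N θ
    have hres := isIrr_restrict_of_coprime N χ.2 (Nat.Coprime.coprime_dvd_right hidx
      (((Fact.out : p.Prime).coprime_iff_not_dvd.2 (not_dvd_of_degP_eq_zero h0 χ)).symm.pow_right k))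
    have heq : (fun m : N => (χ : G → ℂ) m) = (θ : N → ℂ) := by
      by_contra hne
      exact hχ (Char.classInner_irr_ne hres θ.2 hne)
    rw [← congrFun heq n, ← congrFun heq ((MulAut.conjNormal g : MulAut N) n),
      MulAut.conjNormal_apply, Char.irr_isClassFunction χ.2]
  have hcen : (N : Subgroup G) ≤ Subgroup.centralizer ((P : Subgroup G) : Set G) := by
    set C := (Subgroup.centralizer ((P : Subgroup G) : Set G)).subgroupOf N
    suffices hC : C = ⊤ from fun x hx =>
      Subgroup.mem_subgroupOf.1 (hC ▸ Subgroup.mem_top (⟨x, hx⟩ : N))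
    refine FGSev.eq_top_of_forall_conj_mem C fun n => ?_
    let X := {x : N // IsConj n x}
    letI : MulAction (P : Subgroup G) X :=
      { smul := fun u x => ⟨(MulAut.conjNormal (u : G) : MulAut N) x.1,
          x.2.trans (hcls u x.1)⟩
        one_smul := fun x => Subtype.ext (Subtype.ext (by
          show ((1 : (P : Subgroup G)) : G) * (x.1 : G) * ((1 : (P : Subgroup G)) : G)⁻¹ = x.1
          simp))
        mul_smul := fun u v x => Subtype.ext (Subtype.ext (by
          show ((u * v : (P : Subgroup G)) : G) * (x.1 : G) * ((u * v : (P : Subgroup G)) : G)⁻¹ =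
            (u : G) * ((v : G) * (x.1 : G) * (v : G)⁻¹) * (u : G)⁻¹
          simp [mul_assoc])) }
    have hX : ¬ p ∣ Nat.card X := by
      intro hd
      have h1 : Nat.card X = (Subgroup.centralizer ({n} : Set N)).index := by
        rw [Nat.card_eq_fintype_card, Fintype.card_subtype]
        convert Char.card_isConj_eq_index n
      exact (Fact.out : p.Prime).coprime_iff_not_dvd.1 hN.symm
        (hd.trans (h1 ▸ Subgroup.index_dvd_card _))
    obtain ⟨x, hx⟩ := P.isPGroup'.nonempty_fixed_point_of_prime_not_dvd_card X hX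
    obtain ⟨a, ha⟩ := isConj_iff.1 x.2
    refine ⟨a⁻¹, Subgroup.mem_subgroupOf.2 fun u hu => ?_⟩
    rw [inv_inv, ha]
    have := congrArg (fun y : X => ((y.1 : N) : G)) (hx ⟨u, hu⟩)
    change u * (x.1 : G) * u⁻¹ = (x.1 : G) at this
    exact mul_inv_eq_iff_eq_mul.1 this
  have hle : (P : Subgroup G) ⊔ N ≤ Subgroup.normalizer ((P : Subgroup G) : Set G) :=
    sup_le Subgroup.le_normalizer (hcen.trans (Subgroup.centralizer_le_normalizer _))
  exact Subgroup.normalizer_eq_top_iff.1 (top_le_iff.1 (htop ▸ hle))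

omit [Fact p.Prime] in
theorem derivedSeries_eq_bot_of_injective {H K : Type*} [Group H] [Group K] (f : H →* K)
    (hf : Function.Injective f) {n : ℕ} (h : derivedSeries K n = ⊥) : derivedSeries H n = ⊥ := by
  rw [← le_bot_iff, ← Subgroup.map_le_map_iff_of_injective hf, Subgroup.map_bot]
  exact (map_derivedSeries_le_derivedSeries f n).trans h.le

/-- The derived series of a group with abelian normal kernel. -/
theorem derivedSeries_succ_eq_bot {H K : Type*} [Group H] [Group K] (f : H →* K) {n : ℕ}
    (h : derivedSeries K n = ⊥) (hker : ∀ a ∈ f.ker, ∀ b ∈ f.ker, a * b = b * a) :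
    derivedSeries H (n + 1) = ⊥ := by
  have hle : derivedSeries H n ≤ f.ker := (Subgroup.map_eq_bot_iff _).1
    (le_bot_iff.1 ((map_derivedSeries_le_derivedSeries f n).trans h.le))
  rw [derivedSeries_succ, Subgroup.commutator_eq_bot_iff_le_centralizer]
  exact fun a ha b hb => hker b (hle hb) a (hle ha)

/-- A nontrivial `λ`-extension argument: with unique minimal normal subgroup `N ≤ A`, all
characters nontrivial on `N` of degree prime to `p` and `A` abelian, the Sylow subgroups are
metabelian. -/
theorem derived_two_of_pPrime_over (A N : Subgroup G) [A.Normal] [N.Normal] (hA : IsPGroup p A)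
    (hAab : ∀ a ∈ A, ∀ b ∈ A, a * b = b * a) (hNA : N ≤ A) (hN : N ≠ ⊥)
    (hover : ∀ χ : IrrCharacter G, (∃ n ∈ N, (χ : G → ℂ) n ≠ (χ : G → ℂ) 1) →
      ¬ p ∣ charDegree (χ : G → ℂ))
    (hsmall : ∀ (T : Subgroup G) (hAT : A ≤ T), degP p (T ⧸ A.subgroupOf T) = 0 →
      ∀ S : Sylow p (T ⧸ A.subgroupOf T), commutator (S : Subgroup (T ⧸ A.subgroupOf T)) = ⊥)
    (P : Sylow p G) : derivedSeries (P : Subgroup G) 2 = ⊥ := by
  classical
  letI := Fintype.ofFinite G
  letI := Fintype.ofFinite A
  letI := Fintype.ofFinite (P : Subgroup G)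
  have hp : p.Prime := Fact.out
  obtain ⟨n₀, hn₀, hn₀1⟩ : ∃ n ∈ N, n ≠ 1 := by
    obtain ⟨x, hx⟩ := Subgroup.ne_bot_iff_exists_ne_one.1 hN
    exact ⟨x, x.2, fun h => hx (Subtype.ext h)⟩
  obtain ⟨χ, hχn⟩ := Char.exists_irr_ne_degree hn₀1
  have hAP : A ≤ (P : Subgroup G) := hA.le_sylow_of_normal P
  -- a linear constituent on the Sylow subgroup
  have hχd := hover χ ⟨n₀, hn₀, hχn⟩
  obtain ⟨ξ, hξd, hξ⟩ := BlkChar.exists_constituent_not_dvd (p := p)
    (Char.isCharacter_restrict (Char.isCharacter_of_irr χ.2) (P : Subgroup G)) (by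
      intro hd
      exact hχd (by simpa [charDegree] using hd))
  obtain ⟨-, hξ1⟩ := irr_charDegree_spec ξ.2
  rw [charDegree_eq_one_of_not_dvd P.isPGroup' ξ hξd, Nat.cast_one] at hξ1
  obtain ⟨ν, hν⟩ := Char.exists_monoidHom_of_degree_one (Char.isCharacter_of_irr ξ.2) hξ1
  let lam : A →* ℂˣ := ν.comp (Subgroup.inclusion hAP)
  have hlamN : ∃ n : A, (n : G) ∈ N ∧ lam n ≠ 1 := by
    by_contra hc
    push Not at hc
    apply hχn
    letI := Fintype.ofFinite N
    have hone : IsIrrCharacter N fun _ => (1 : ℂ) := Char.isIrrCharacter_const_one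
    by_contra hker
    -- the restriction of `χ` to `N` has no trivial constituent
    have h0 : classInner (fun x : N => (χ : G → ℂ) x) (fun _ => 1) = 0 := by
      by_contra h
      have hs := CharInd.clifford N χ.2 hone h
      have hcl : CharInd.conjClass N (fun _ : N => (1 : ℂ)) = {fun _ => 1} :=
        Finset.eq_singleton_iff_unique_mem.2 ⟨(CharInd.mem_conjClass N).2 ⟨1, rfl⟩, fun φ hφ => by
          obtain ⟨x, rfl⟩ := (CharInd.mem_conjClass N).1 hφ; rfl⟩
      rw [hcl, Finset.sum_singleton] at hs
      exact hker ((congrFun hs ⟨n₀, hn₀⟩).trans (congrFun hs 1).symm)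
    -- but `ν` is trivial on `N`
    apply hξ
    let NP := N.subgroupOf (P : Subgroup G)
    letI := Fintype.ofFinite NP
    have hsum : ∑ x : NP, (χ : G → ℂ) ((x : (P : Subgroup G)) : G) = 0 := by
      have e := Fintype.sum_equiv (Subgroup.subgroupOfEquivOfLe (hNA.trans hAP)).toEquiv
        (fun x : NP => (χ : G → ℂ) ((x : (P : Subgroup G)) : G))
        (fun y : N => (χ : G → ℂ) y) fun x => rfl
      rw [e]
      unfold classInner at h0
      simpa [Nat.card_pos.ne'] using h0
    have hF : IsCharacter (P : Subgroup G) ((fun x : (P : Subgroup G) => (χ : G → ℂ) x) *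
        fun x => conj ((ξ : ↥(P : Subgroup G) → ℂ) x)) :=
      Char.isCharacter_mul (Char.isCharacter_restrict (Char.isCharacter_of_irr χ.2) _)
        (Char.isCharacter_conjFun (Char.isCharacter_of_irr ξ.2))
    have hall := RealChar.sum_eq_zero_of_sum_subgroup NP hF (by
      rw [← hsum]
      refine Finset.sum_congr rfl fun x _ => ?_
      rw [Pi.mul_apply, hν, show ν (x : (P : Subgroup G)) = 1 from
        hc ⟨((x : (P : Subgroup G)) : G), hNA x.2⟩ x.2]
      simp)
    simp only [classInner, Pi.mul_apply] at hall ⊢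
    rw [hall, mul_zero]
  obtain ⟨n₁, hn₁, hlam₁⟩ := hlamN
  -- the inertia group
  set θA : A → ℂ := fun a => (lam a : ℂ) with hθA
  have hθAirr : IsIrrCharacter A θA := Char.isIrrCharacter_monoidHom lam
  set T := CharInd.conjStab A θA
  have hPT : (P : Subgroup G) ≤ T := fun u hu => by
    rw [CharInd.mem_conjStab]
    funext a
    rw [CharInd.conjChar_apply]
    simp only [hθA, lam, MonoidHom.comp_apply]
    congr 1
    have e : Subgroup.inclusion hAP ⟨u * a * u⁻¹, Subgroup.Normal.conj_mem inferInstance _ a.2 u⟩ =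
        ⟨u, hu⟩ * Subgroup.inclusion hAP a * (⟨u, hu⟩ : (P : Subgroup G))⁻¹ := Subtype.ext rfl
    rw [e, map_mul, map_mul, map_inv, mul_inv_cancel_comm]
  have hAT : A ≤ T := hAP.trans hPT
  haveI hATn : (A.subgroupOf T).Normal := inferInstance
  let lamT : A.subgroupOf T →* ℂˣ := lam.comp (Subgroup.subgroupOfEquivOfLe hAT).toMonoidHom
  obtain ⟨μ, hμ⟩ := CharExt.exists_extension_of_sylow (A.subgroupOf T) lamT (fun g a => by
    have h1 := congrFun (CharInd.mem_conjStab A |>.1 g.2) ⟨((a : T) : G), a.2⟩
    exact Units.ext h1) (by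
    intro r hr hrd
    have hexp : lamT ^ Nat.card A = 1 := MonoidHom.ext fun a => by
      rw [MonoidHom.pow_apply, MonoidHom.one_apply]
      show lam _ ^ Nat.card A = 1
      rw [← map_pow, pow_card_eq_one', map_one]
    obtain ⟨k, hk⟩ := IsPGroup.iff_card.1 hA
    have hrp : r = p := (Nat.prime_dvd_prime_iff_eq hr hp).1
      (hr.dvd_of_dvd_pow (hk ▸ hrd.trans (orderOf_dvd_of_pow_eq_one hexp)))
    subst hrp
    refine ⟨(P : Subgroup G).subgroupOf T, Subgroup.comap_mono hAP,
      ν.comp (Subgroup.subgroupOfEquivOfLe hPT).toMonoidHom, ?_, fun a => rfl⟩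
    have h2 : ¬ r ∣ ((P : Subgroup G).subgroupOf T).index := fun h =>
      P.not_dvd_index (h.trans (Subgroup.relIndex_dvd_index_of_le hPT))
    exact ((hr.coprime_iff_not_dvd).2 h2).symm)
  -- all degrees of `T / A` are prime to `p`
  have hT0 : degP p (T ⧸ A.subgroupOf T) = 0 := by
    refine degP_eq_zero fun β hd => ?_
    letI := Fintype.ofFinite T
    letI := Fintype.ofFinite (A.subgroupOf T)
    let θ : T → ℂ := (fun t => (μ t : ℂ)) * (inflate (A.subgroupOf T) β : T → ℂ)
    have hμres : ∀ a : A, μ (Subgroup.inclusion hAT a) = lam a := fun a =>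
      hμ ⟨Subgroup.inclusion hAT a, a.2⟩
    have hθ : IsIrrCharacter T θ := by
      rw [show θ = (inflate (A.subgroupOf T) β : T → ℂ) * fun t => (μ t : ℂ) from mul_comm _ _]
      refine CharExt.isIrrCharacter_mul (A.subgroupOf T) _ (Char.isIrrCharacter_monoidHom μ)
        (Char.isIrrCharacter_monoidHom (μ.comp (A.subgroupOf T).subtype))
        (inflate (A.subgroupOf T) β).2 fun a t => ?_
      rw [inflate_apply, inflate_apply, QuotientGroup.mk_mul,
        (QuotientGroup.eq_one_iff (a : T)).2 a.2, one_mul]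
    have hθA' : ∀ a : A, θ (Subgroup.inclusion hAT a) =
        (β : T ⧸ A.subgroupOf T → ℂ) 1 * θA a := fun a => by
      simp only [θ, Pi.mul_apply, inflate_apply, hμres, hθA]
      rw [(QuotientGroup.eq_one_iff (Subgroup.inclusion hAT a)).2 a.2, mul_comm]
    have hind : IsIrrCharacter G (indFun T θ) := by
      refine Char.isIrrCharacter_iff_classInner.mpr
        ⟨CharInd.isCharacter_indFun T (Char.isCharacter_of_irr hθ), ?_⟩
      rw [RealChar.classInner_indFun_inertia A T hAT ⟨θA, hθAirr⟩
        (fun g hg => (CharInd.mem_conjStab A).2 (funext fun a => hg a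
          ⟨g * a * g⁻¹, Subgroup.Normal.conj_mem inferInstance _ a.2 g⟩ rfl))
        (Char.isCharacter_of_irr hθ) (Char.isCharacter_of_irr hθ) _ _ hθA' hθA']
      exact Char.classInner_irr_self hθ
    refine hover ⟨_, hind⟩ ?_ (dvd_trans hd ?_)
    · by_contra hc
      push Not at hc
      have hinner : classInner θ (fun t : T => indFun T θ t) = 1 := by
        rw [← CharInd.classInner_indFun_left T θ (Char.irr_isClassFunction hind),
          Char.classInner_irr_self hind]
      set a₀ : T := Subgroup.inclusion hAT n₁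
      have hshift : classInner θ (fun t : T => indFun T θ t) =
          (lam n₁ : ℂ) * classInner θ (fun t : T => indFun T θ t) := by
        simp only [classInner, Finset.mul_sum]
        refine Fintype.sum_equiv (Equiv.mulLeft a₀⁻¹) _ _ fun t => ?_
        simp only [Equiv.coe_mulLeft]
        have e1 : θ t = (lam n₁ : ℂ) * θ (a₀⁻¹ * t) := by
          conv_lhs => rw [show t = a₀ * (a₀⁻¹ * t) by group]
          simp only [θ, Pi.mul_apply, map_mul, Units.val_mul, inflate_apply, a₀, hμres,
            QuotientGroup.mk_mul]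
          rw [(QuotientGroup.eq_one_iff (Subgroup.inclusion hAT n₁)).2 n₁.2, one_mul]
          ring
        have e2 : indFun T θ ((t : T) : G) = indFun T θ ((a₀⁻¹ * t : T) : G) := by
          rw [Subgroup.coe_mul, (Char.isCharacter_mul_of_mem_ker (Char.isCharacter_of_irr hind)
            (hc _ (show ((a₀⁻¹ : T) : G) ∈ N from N.inv_mem hn₁)) _).1]
        rw [e1, e2]; ring
      rw [hinner, mul_one] at hshift
      exact hlam₁ (Units.ext hshift.symm)
    · have h1 : charDegree (indFun T θ) = T.index * charDegree (β : T ⧸ A.subgroupOf T → ℂ) := by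
        rw [charDegree, CharInd.indFun_one_apply]
        simp only [θ, Pi.mul_apply, map_one, Units.val_one, one_mul, inflate_apply,
          QuotientGroup.mk_one, (irr_charDegree_spec β.2).2, ← Nat.cast_mul, Complex.natCast_re,
          Nat.floor_natCast]
      exact h1 ▸ dvd_mul_left _ _
  -- conclude
  obtain ⟨S, hS⟩ := ((P.isPGroup'.comap_subtype (K := T)).map
    (QuotientGroup.mk' (A.subgroupOf T))).exists_le_sylow
  let f : (P : Subgroup G) →* S := ((QuotientGroup.mk' (A.subgroupOf T)).comp
    (Subgroup.inclusion hPT)).codRestrict (S : Subgroup (T ⧸ A.subgroupOf T)) fun u =>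
      hS ⟨Subgroup.inclusion hPT u, u.2, rfl⟩
  refine derivedSeries_succ_eq_bot f (n := 1) ?_ ?_
  · rw [derivedSeries_one]; exact hsmall T hAT hT0 S
  · intro a ha b hb
    have ha' : (a : G) ∈ A :=
      (QuotientGroup.eq_one_iff (N := A.subgroupOf T) (Subgroup.inclusion hPT a)).1
        (congrArg Subtype.val ha)
    have hb' : (b : G) ∈ A :=
      (QuotientGroup.eq_one_iff (N := A.subgroupOf T) (Subgroup.inclusion hPT b)).1
        (congrArg Subtype.val hb)
    exact Subtype.ext (hAab _ ha' _ hb')

end Cfsg.Agent.CharGraph
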