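import Cfsg.Agent.CharGraph.Dichotomy
import Cfsg.Agent.BlkChar.PPrimeConstituent
import Cfsg.Agent.BlocksChar.ClassProd
import Cfsg.Agent.PSolv.HallHigman
import Cfsg.Agent.FGSev.PPowerIndex

/-!
# Basic facts on the number of character degrees divisible by a prime
-/

namespace Cfsg.Agent.CharGraph

open Cfsg
open Cfsg.Agent.Char (irr_charDegree_spec)
open scoped ComplexConjugate

universe u

/-- The number of irreducible characters of degree divisible by `p`. -/
noncomputable def degP (p : ℕ) (G : Type u) [Group G] : ℕ :=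
  Nat.card {χ : IrrCharacter G // p ∣ charDegree (χ : G → ℂ)}

variable {G : Type u} [Group G] [Finite G] {p : ℕ}

theorem finite_irr : Finite (IrrCharacter G) := inferInstance

theorem not_dvd_of_degP_eq_zero (h : degP p G = 0) (χ : IrrCharacter G) :
    ¬ p ∣ charDegree (χ : G → ℂ) := fun hd => by
  haveI : Nonempty {χ : IrrCharacter G // p ∣ charDegree (χ : G → ℂ)} := ⟨⟨χ, hd⟩⟩
  exact Nat.card_pos.ne' h

theorem degP_eq_zero (h : ∀ χ : IrrCharacter G, ¬ p ∣ charDegree (χ : G → ℂ)) : degP p G = 0 := by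
  haveI : IsEmpty {χ : IrrCharacter G // p ∣ charDegree (χ : G → ℂ)} := ⟨fun x => h x.1 x.2⟩
  exact Nat.card_of_isEmpty

/-- Inflation of characters. -/
noncomputable def inflate (N : Subgroup G) [N.Normal] (β : IrrCharacter (G ⧸ N)) : IrrCharacter G :=
  (Char.irrEquivQuotient N β).1

theorem inflate_apply (N : Subgroup G) [N.Normal] (β : IrrCharacter (G ⧸ N)) (g : G) :
    (inflate N β : G → ℂ) g = (β : G ⧸ N → ℂ) g := rfl

theorem charDegree_inflate (N : Subgroup G) [N.Normal] (β : IrrCharacter (G ⧸ N)) :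
    charDegree (inflate N β : G → ℂ) = charDegree (β : G ⧸ N → ℂ) := by
  rw [charDegree, charDegree, inflate_apply, QuotientGroup.mk_one]

theorem inflate_injective (N : Subgroup G) [N.Normal] :
    Function.Injective (inflate (G := G) N) :=
  Subtype.val_injective.comp (Char.irrEquivQuotient N).injective

theorem degP_quotient_le (N : Subgroup G) [N.Normal] : degP p (G ⧸ N) ≤ degP p G :=
  Nat.card_le_card_of_injective
    (fun β => ⟨inflate N β.1, by rw [charDegree_inflate]; exact β.2⟩) fun β β' h => by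
    have h2 : inflate N β.1 = inflate N β'.1 := Subtype.mk.inj h
    exact Subtype.ext (inflate_injective N h2)

/-- If equality holds, every character of degree divisible by `p` has `N` in its kernel. -/
theorem apply_eq_one_of_degP_quotient_eq (N : Subgroup G) [N.Normal]
    (h : degP p (G ⧸ N) = degP p G) (χ : IrrCharacter G) (hd : p ∣ charDegree (χ : G → ℂ))
    {n : G} (hn : n ∈ N) : (χ : G → ℂ) n = (χ : G → ℂ) 1 := by
  let F : {β : IrrCharacter (G ⧸ N) // p ∣ charDegree (β : G ⧸ N → ℂ)} →
      {χ : IrrCharacter G // p ∣ charDegree (χ : G → ℂ)} :=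
    fun β => ⟨inflate N β.1, by rw [charDegree_inflate]; exact β.2⟩
  have hF : Function.Injective F := fun β β' h' => by
    have h2 : inflate N β.1 = inflate N β'.1 := Subtype.mk.inj h'
    exact Subtype.ext (inflate_injective N h2)
  obtain ⟨β, hβ⟩ := (hF.bijective_of_nat_card_le h.ge).2 ⟨χ, hd⟩
  rw [← show inflate N β.1 = χ from congrArg Subtype.val hβ, inflate_apply, inflate_apply,
    (QuotientGroup.eq_one_iff n).2 hn, QuotientGroup.mk_one]

/-- Every irreducible character of a subgroup lies under one of the group. -/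
theorem exists_irr_over (H : Subgroup G) (ψ : IrrCharacter H) :
    letI := Fintype.ofFinite H
    ∃ χ : IrrCharacter G, classInner (fun h : H => (χ : G → ℂ) h) (ψ : H → ℂ) ≠ 0 := by
  classical
  letI := Fintype.ofFinite G
  letI := Fintype.ofFinite H
  have hne : indFun H (ψ : H → ℂ) ≠ 0 := fun h => by
    have h1 := congrFun h 1
    rw [CharInd.indFun_one_apply, Pi.zero_apply] at h1
    exact mul_ne_zero (Nat.cast_ne_zero.2 Subgroup.index_ne_zero_of_finite)
      (Char.irr_one_ne_zero ψ.2) h1
  obtain ⟨χ, n, hn, hχ⟩ := Char.exists_irr_constituent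
    (CharInd.isCharacter_indFun H (Char.isCharacter_of_irr ψ.2)) hne
  refine ⟨χ, fun h0 => ?_⟩
  rw [CharInd.classInner_indFun_left H _ (Char.irr_isClassFunction χ.2),
    ← Char.classInner_conj, h0, map_zero] at hχ
  exact hn.ne' (by exact_mod_cast hχ.symm)

/-- If no degree of the group is divisible by `p`, none of a normal subgroup is. -/
theorem degP_normal_eq_zero (H : Subgroup G) [H.Normal] (h : degP p G = 0) : degP p H = 0 := by
  letI := Fintype.ofFinite G
  letI := Fintype.ofFinite H
  refine degP_eq_zero fun ψ hd => ?_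
  obtain ⟨χ, hχ⟩ := exists_irr_over H ψ
  exact not_dvd_of_degP_eq_zero h χ (hd.trans (CharDeep.degree_ratio_dvd_index H χ.2 ψ.2 hχ
    (irr_charDegree_spec χ.2).2 (irr_charDegree_spec ψ.2).2).1)

theorem charDegree_eq_one_of_not_dvd [Fact p.Prime] (hG : IsPGroup p G) (χ : IrrCharacter G)
    (h : ¬ p ∣ charDegree (χ : G → ℂ)) : charDegree (χ : G → ℂ) = 1 := by
  obtain ⟨n, hn⟩ := IsPGroup.iff_card.1 hG
  obtain ⟨j, -, hj⟩ := (Nat.dvd_prime_pow (Fact.out : p.Prime)).1
    (hn ▸ BlkChar.irr_charDegree_dvd_card χ)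
  rcases j.eq_zero_or_pos with rfl | hj0
  · simpa using hj
  · exact absurd (hj ▸ dvd_pow_self p hj0.ne') h

theorem commutator_eq_bot_of_degP_eq_zero [Fact p.Prime] (hG : IsPGroup p G)
    (h : degP p G = 0) : commutator G = ⊥ := by
  by_contra hne
  obtain ⟨χ, hχ⟩ := exists_nonlinear_irr hne
  exact hχ (charDegree_eq_one_of_not_dvd hG χ (not_dvd_of_degP_eq_zero h χ))

end Cfsg.Agent.CharGraph
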