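import Cfsg.Agent.CharGraph.PDegreeBasic
import Cfsg.Agent.CharExt.Inertia
import Cfsg.Agent.CharExt.Linear
import Cfsg.Agent.CharExt.Extension
import Cfsg.Agent.Lib.ClassSize

/-!
# Relative degree sets over a normal subgroup: the role of linear characters
-/

namespace Cfsg.Agent.CharGraph.Rel

open Cfsg
open Cfsg.Agent.Char (irr_charDegree_spec)
open Cfsg.Agent.CharExt (homVal inertia)
open Cfsg.Agent.CharInd (conjChar conjClass)
open scoped ComplexConjugate

universe u

variable {G : Type u} [Group G]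

/-- Multiplication by a homomorphism keeps irreducibility. -/
theorem homVal_mul_irr {X : Type*} [Group X] [Finite X] (l : X →* ℂˣ) {χ : X → ℂ}
    (hχ : IsIrrCharacter X χ) : IsIrrCharacter X (homVal l * χ) := by
  letI := Fintype.ofFinite X
  refine Char.isIrrCharacter_iff_classInner.2
    ⟨Char.isCharacter_mul (Char.isCharacter_of_irr (Char.isIrrCharacter_monoidHom l))
      (Char.isCharacter_of_irr hχ), ?_⟩
  rw [← Char.classInner_irr_self hχ, classInner, classInner]
  congr 1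
  refine Finset.sum_congr rfl fun x _ => ?_
  have hn : ‖homVal l x‖ = 1 := by
    refine Complex.norm_eq_one_of_pow_eq_one (n := Nat.card X) ?_ Nat.card_pos.ne'
    show ((l x : ℂ)) ^ Nat.card X = 1
    rw [← Units.val_pow_eq_pow_val, ← map_pow, pow_card_eq_one', map_one, Units.val_one]
  have h1 : homVal l x * conj (homVal l x) = 1 := by
    rw [Complex.mul_conj, Complex.normSq_eq_norm_sq, hn, one_pow, Complex.ofReal_one]
  simp only [Pi.mul_apply, map_mul]
  linear_combination (χ x * conj (χ x)) * h1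

variable (N : Subgroup G) [N.Normal]

theorem conjChar_mul_fun (x : G) (a b : N → ℂ) :
    conjChar N x (a * b) = conjChar N x a * conjChar N x b := rfl

theorem inertia_le_pow (φ : N → ℂ) (k : ℕ) : inertia N φ ≤ inertia N (φ ^ k) := fun x hx => by
  show conjChar N x (φ ^ k) = φ ^ k
  funext n
  rw [CharInd.conjChar_apply, Pi.pow_apply, Pi.pow_apply]
  exact congrArg (· ^ k) (congrFun hx n)

theorem inf_inertia_le_mul (a b : N → ℂ) : inertia N a ⊓ inertia N b ≤ inertia N (a * b) :=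
  fun x hx => by
    show conjChar N x (a * b) = a * b
    rw [conjChar_mul_fun]
    exact congrArg₂ (· * ·) hx.1 hx.2

/-- The conjugate of a homomorphism. -/
noncomputable def cjHom (x : G) (φ : N →* ℂˣ) : N →* ℂˣ :=
  φ.comp (MulAut.conjNormal x : MulAut N).toMonoidHom

theorem homVal_cjHom (x : G) (φ : N →* ℂˣ) :
    homVal (cjHom N x φ) = conjChar N x (homVal φ) := by
  rw [CharInd.conjChar_eq_comp]
  rfl

variable [Finite G]

/-- The degree of a character lying over `θ`. -/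
theorem degree_eq {χ : G → ℂ} (hχ : IsIrrCharacter G χ) {θ : N → ℂ} (hθ : IsIrrCharacter N θ)
    (h : letI := Fintype.ofFinite N; classInner (fun n : N => χ n) θ ≠ 0) :
    letI := Fintype.ofFinite G
    ∃ e : ℕ, 0 < e ∧ charDegree χ = e * (inertia N θ).index * charDegree θ ∧
      (fun n : N => χ n) = (e : ℂ) • ∑ ψ ∈ conjClass N θ, ψ := by
  letI := Fintype.ofFinite G
  letI := Fintype.ofFinite N
  obtain ⟨e, he, -, hres, hdeg⟩ := CharExt.clifford_data N hχ hθ h
  refine ⟨e, he, ?_, hres⟩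
  rw [(irr_charDegree_spec hχ).2, (irr_charDegree_spec hθ).2] at hdeg
  exact_mod_cast hdeg

/-- A constituent that is not principal gives a member of the relative degree set. -/
theorem mem_rel {χ : G → ℂ} (hχ : IsIrrCharacter G χ) {θ : N → ℂ} (hθ : IsIrrCharacter N θ)
    (hne : θ ≠ fun _ => 1)
    (h : letI := Fintype.ofFinite N; classInner (fun n : N => χ n) θ ≠ 0) :
    charDegree χ ∈ relCharDegrees N := by
  letI := Fintype.ofFinite N
  refine ⟨⟨χ, hχ⟩, ?_, rfl⟩
  by_contra hc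
  push Not at hc
  apply h
  have h1 : (fun n : N => χ n) = χ 1 • homVal (1 : N →* ℂˣ) := by
    funext n
    show χ n = χ 1 * 1
    rw [mul_one]
    exact hc n n.2
  have h2 : classInner (homVal (1 : N →* ℂˣ)) θ = 0 :=
    Char.classInner_irr_ne (Char.isIrrCharacter_monoidHom 1) hθ (fun h2 => hne h2.symm)
  rw [h1, Char.classInner_smul_left, h2, mul_zero]

/-- If the kernel does not contain `N`, the principal character is no constituent. -/
theorem constituent_ne_one {χ : G → ℂ} (hχ : IsIrrCharacter G χ) {x : G} (hx : x ∈ N)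
    (hxχ : χ x ≠ χ 1) {θ : N → ℂ} (hθ : IsIrrCharacter N θ)
    (h : letI := Fintype.ofFinite N; classInner (fun n : N => χ n) θ ≠ 0) : θ ≠ fun _ => 1 := by
  letI := Fintype.ofFinite G
  letI := Fintype.ofFinite N
  rintro rfl
  obtain ⟨e, -, -, hres⟩ := degree_eq N hχ hθ h
  have htop : inertia N (fun _ : N => (1 : ℂ)) = ⊤ := eq_top_iff.2 fun y _ => rfl
  rw [CharExt.conjClass_eq_singleton N htop, Finset.sum_singleton] at hres
  have h1 := congrFun hres ⟨x, hx⟩
  have h2 := congrFun hres ⟨1, N.one_mem⟩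
  simp only [Pi.smul_apply] at h1 h2
  exact hxχ (h1.trans h2.symm)

/-- Over a non-principal irreducible character there is a member of the relative degree set. -/
theorem exists_over {θ : N → ℂ} (hθ : IsIrrCharacter N θ) (hne : θ ≠ fun _ => 1) :
    letI := Fintype.ofFinite N
    ∃ χ : IrrCharacter G, classInner (fun n : N => (χ : G → ℂ) n) θ ≠ 0 ∧
      charDegree (χ : G → ℂ) ∈ relCharDegrees N ∧
      (inertia N θ).index * charDegree θ ∣ charDegree (χ : G → ℂ) := by
  letI := Fintype.ofFinite G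
  letI := Fintype.ofFinite N
  obtain ⟨χ, hχ⟩ := exists_irr_over N ⟨θ, hθ⟩
  obtain ⟨e, -, hdeg, -⟩ := degree_eq N χ.2 hθ hχ
  exact ⟨χ, hχ, mem_rel N χ.2 hθ hne hχ, ⟨e, by rw [hdeg]; ring⟩⟩

omit [Finite G] in
theorem homVal_ne_one {φ : N →* ℂˣ} (h : φ ≠ 1) : homVal φ ≠ fun _ => 1 := fun h1 =>
  h (CharExt.homVal_injective (by rw [h1, map_one]; rfl))

/-- The orbit of a product, when the stabilisers have coprime indices. -/
theorem index_mul_not_coprime {q : ℕ} (a b : N →* ℂˣ) (hb : b ^ q = 1)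
    (hq : (inertia N (homVal a)).index.Coprime q)
    (hb1 : (inertia N (homVal b)).index ≠ 1)
    (hab : (inertia N (homVal a)).index.Coprime (inertia N (homVal b)).index) :
    ¬ (inertia N (homVal (a * b))).index.Coprime (inertia N (homVal b)).index := by
  classical
  letI := Fintype.ofFinite G
  intro hcop
  set va := homVal a with hva
  set vb := homVal b with hvb
  rw [map_mul] at hcop
  refine hb1 (Subgroup.index_eq_one.2 (eq_top_iff.2 fun g _ => ?_))
  set O := conjClass N (va * vb)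
  set O1 := conjClass N va with hO1
  have hO : O = O1.image (· * vb) := by
    ext ψ
    rw [Finset.mem_image, CharInd.mem_conjClass N]
    constructor
    · rintro ⟨h, rfl⟩
      obtain ⟨x, hx, y, hy, rfl⟩ := ClassSize.mul_eq_univ_of_coprime_index hcop h
      refine ⟨conjChar N y va, (CharInd.mem_conjClass N).2 ⟨y, rfl⟩, ?_⟩
      rw [CharInd.conjChar_mul, (CharExt.mem_inertia.1 hx), conjChar_mul_fun,
        CharExt.mem_inertia.1 hy]
    · rintro ⟨ψ1, hψ1, rfl⟩
      obtain ⟨h, rfl⟩ := (CharInd.mem_conjClass N).1 hψ1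
      obtain ⟨x, hx, y, hy, rfl⟩ := ClassSize.mul_eq_univ_of_coprime_index hab h
      refine ⟨y, ?_⟩
      rw [CharInd.conjChar_mul, (CharExt.mem_inertia.1 hx), conjChar_mul_fun,
        CharExt.mem_inertia.1 hy]
  set c := conjChar N g vb with hc
  have hne : ∀ n : N, vb n ≠ 0 := fun n => Units.ne_zero _
  have hcne : ∀ n : N, c n ≠ 0 := fun n => Units.ne_zero _
  have hinj : ∀ d : N → ℂ, (∀ n, d n ≠ 0) → Function.Injective (fun ψ : N → ℂ => ψ * d) :=
    fun d hd x y hxy => funext fun n => mul_right_cancel₀ (hd n) (congrFun hxy n)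
  have hO2 : O1.image (· * c) = O := by
    refine Finset.eq_of_subset_of_card_le (fun ψ hψ => ?_) ?_
    · obtain ⟨ψ1, hψ1, rfl⟩ := Finset.mem_image.1 hψ
      obtain ⟨h, rfl⟩ := (CharInd.mem_conjClass N).1 hψ1
      obtain ⟨x, hx, y, hy, hxy⟩ := ClassSize.mul_eq_univ_of_coprime_index hab (h * g⁻¹)
      refine (CharInd.mem_conjClass N).2 ⟨y * g, ?_⟩
      have hh : h = x * (y * g) := by rw [← mul_assoc, hxy, inv_mul_cancel_right]
      rw [hc, hh, CharInd.conjChar_mul N x, (CharExt.mem_inertia.1 hx), conjChar_mul_fun,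
        CharInd.conjChar_mul N y g vb, CharExt.mem_inertia.1 hy]
    · rw [hO, Finset.card_image_of_injective _ (hinj vb hne),
        Finset.card_image_of_injective _ (hinj c hcne)]
  funext n
  have hprod : ∀ d : N → ℂ, (∀ m, d m ≠ 0) →
      ∏ ψ ∈ O1.image (· * d), ψ n = (∏ ψ ∈ O1, ψ n) * d n ^ O1.card := by
    intro d hd
    rw [Finset.prod_image (fun x _ y _ h => hinj d hd h)]
    simp only [Pi.mul_apply]
    rw [Finset.prod_mul_distrib, Finset.prod_const]
  have hP : ∏ ψ ∈ O1, ψ n ≠ 0 := by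
    rw [Finset.prod_ne_zero_iff]
    intro ψ hψ
    obtain ⟨h, rfl⟩ := (CharInd.mem_conjClass N).1 hψ
    exact Units.ne_zero _
  have h1 : c n ^ O1.card = vb n ^ O1.card := by
    refine mul_left_cancel₀ hP ?_
    rw [← hprod c hcne, ← hprod vb hne, hO2, hO]
  have h2 : (c n / vb n) ^ O1.card = 1 := by
    rw [div_pow, h1, div_self (pow_ne_zero _ (hne n))]
  have h3 : ∀ m : N, homVal b m ^ q = 1 := fun m => by
    show ((b m : ℂ)) ^ q = 1
    rw [← Units.val_pow_eq_pow_val, ← MonoidHom.pow_apply, hb]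
    rfl
  have h4 : (c n / vb n) ^ q = 1 := by
    rw [div_pow, hc, hvb, CharInd.conjChar_apply, h3, h3, div_one]
  have h5 := pow_gcd_eq_one.2 ⟨h2, h4⟩
  rw [hO1, CharExt.card_conjClass, hq.gcd_eq_one, pow_one, div_eq_one_iff_eq (hne n)] at h5
  exact h5

/-! ### The `r`-power order characters extending to `P ⊔ N` -/

/-- The `r`-part of the order of `N`. -/
noncomputable def rPart (r : ℕ) : ℕ := r ^ (Nat.card N).factorization r

/-- The part prime to `r` of the order of `N`. -/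
noncomputable def rCo (r : ℕ) : ℕ := Nat.card N / rPart N r

omit [N.Normal] [Finite G] in
theorem rPart_mul_rCo (r : ℕ) : rPart N r * rCo N r = Nat.card N :=
  Nat.ordProj_mul_ordCompl_eq_self _ _

omit [N.Normal] in
theorem not_dvd_rCo {r : ℕ} (hr : r.Prime) : ¬ r ∣ rCo N r :=
  Nat.not_dvd_ordCompl hr Nat.card_pos.ne'

omit [N.Normal] in
theorem coprime_rCo {r : ℕ} (hr : r.Prime) : (rPart N r).Coprime (rCo N r) :=
  Nat.Coprime.pow_left _ ((hr.coprime_iff_not_dvd).2 (not_dvd_rCo N hr))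

omit [N.Normal] in
theorem hom_pow_card (φ : N →* ℂˣ) : φ ^ Nat.card N = 1 := MonoidHom.ext fun n => by
  rw [MonoidHom.pow_apply, ← map_pow, pow_card_eq_one', map_one, MonoidHom.one_apply]

omit [N.Normal] in
theorem pow_rCo_pow (φ : N →* ℂˣ) (r : ℕ) : (φ ^ rCo N r) ^ rPart N r = 1 :=
  MonoidHom.ext fun n => by
    rw [MonoidHom.pow_apply, MonoidHom.pow_apply, ← pow_mul, mul_comm, rPart_mul_rCo,
      ← MonoidHom.pow_apply, hom_pow_card]

omit [N.Normal] [Finite G] in
theorem eq_one_of_pow {M : Type*} [Monoid M] {x : M} {m n : ℕ} (h : m.Coprime n)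
    (h1 : x ^ m = 1) (h2 : x ^ n = 1) : x = 1 := by
  have := pow_gcd_eq_one.2 ⟨h1, h2⟩
  rwa [h.gcd_eq_one, pow_one] at this

variable {r : ℕ} (P : Sylow r G)

/-- Non-trivial characters of `r`-power order with an extension to `P ⊔ N`. -/
def LSet : Set (N →* ℂˣ) :=
  {φ | φ ≠ 1 ∧ φ ^ rPart N r = 1 ∧
    ∃ μ : ↥((P : Subgroup G) ⊔ N) →* ℂˣ, ∀ n : N, μ ⟨n, le_sup_right (a := (P : Subgroup G)) n.2⟩ = φ n}

theorem sup_le_inertia {φ : N →* ℂˣ} (h : φ ∈ LSet N P) :
    (P : Subgroup G) ⊔ N ≤ inertia N (homVal φ) := by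
  intro x hx
  obtain ⟨-, -, μ, hμ⟩ := h
  refine CharExt.mem_inertia.2 (funext fun n => ?_)
  show (φ _ : ℂ) = (φ n : ℂ)
  rw [← hμ, ← hμ]
  congr 1
  have e : (⟨x * n * x⁻¹, le_sup_right (a := (P : Subgroup G))
      (Subgroup.Normal.conj_mem inferInstance _ n.2 x)⟩ : ↥((P : Subgroup G) ⊔ N)) =
      ⟨x, hx⟩ * ⟨n, le_sup_right (a := (P : Subgroup G)) n.2⟩ * ⟨x, hx⟩⁻¹ := rfl
  rw [e, map_mul, map_mul, map_inv, mul_inv_cancel_comm]

theorem not_dvd_sup_index [Fact r.Prime] : ¬ r ∣ ((P : Subgroup G) ⊔ N).index :=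
  fun h => P.not_dvd_index (h.trans (Subgroup.index_dvd_of_le le_sup_left))

theorem not_dvd_index [Fact r.Prime] {φ : N →* ℂˣ} (h : φ ∈ LSet N P) :
    ¬ r ∣ (inertia N (homVal φ)).index :=
  fun hd => not_dvd_sup_index N P (hd.trans (Subgroup.index_dvd_of_le (sup_le_inertia N P h)))

theorem index_ne_one [hr : Fact r.Prime] (hNG : N ≤ commutator G) {φ : N →* ℂˣ}
    (h : φ ∈ LSet N P) : (inertia N (homVal φ)).index ≠ 1 := by
  intro h1
  obtain ⟨hne, hpow, μ, hμ⟩ := h
  have hinv : ∀ (g : G) (n : N),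
      φ ⟨g * n * g⁻¹, Subgroup.Normal.conj_mem inferInstance (n : G) n.2 g⟩ = φ n := by
    intro g n
    have hg : g ∈ inertia N (homVal φ) := by rw [Subgroup.index_eq_one.1 h1]; trivial
    exact Units.ext (congrFun (CharExt.mem_inertia.1 hg) n)
  obtain ⟨ν, hν⟩ := CharExt.exists_extension_of_sylow N φ hinv (fun p hp hpo => by
    have hpr : p = r := (Nat.prime_dvd_prime_iff_eq hp hr.out).1
      (hp.dvd_of_dvd_pow (hpo.trans (orderOf_dvd_of_pow_eq_one hpow)))
    subst hpr
    exact ⟨(P : Subgroup G) ⊔ N, le_sup_right, μ,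
      (hp.coprime_iff_not_dvd.2 (not_dvd_sup_index N P)).symm, hμ⟩)
  refine hne (MonoidHom.ext fun n => ?_)
  rw [← hν n, MonoidHom.one_apply]
  exact Abelianization.commutator_subset_ker ν (hNG n.2)

theorem mul_mem_LSet {φ ψ : N →* ℂˣ} (hφ : φ ∈ LSet N P) (hψ : ψ ∈ LSet N P) (hne : φ * ψ ≠ 1) :
    φ * ψ ∈ LSet N P := by
  obtain ⟨-, h1, μ, hμ⟩ := hφ
  obtain ⟨-, h2, ν, hν⟩ := hψ
  exact ⟨hne, MonoidHom.ext fun n => by
    rw [MonoidHom.pow_apply, MonoidHom.mul_apply, mul_pow, ← MonoidHom.pow_apply,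
      ← MonoidHom.pow_apply, h1, h2, MonoidHom.one_apply, one_mul], μ * ν, fun n => by
    rw [MonoidHom.mul_apply, MonoidHom.mul_apply, hμ, hν]⟩

theorem exists_common [hr : Fact r.Prime] (hNG : N ≤ commutator G) {a b : N →* ℂˣ}
    (ha : a ∈ LSet N P) (hb : b ∈ LSet N P)
    (hab : (inertia N (homVal a)).index.Coprime (inertia N (homVal b)).index) :
    a * b ∈ LSet N P ∧
      ¬ (inertia N (homVal (a * b))).index.Coprime (inertia N (homVal a)).index ∧
      ¬ (inertia N (homVal (a * b))).index.Coprime (inertia N (homVal b)).index := by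
  have hq : ∀ φ ∈ LSet N P, (inertia N (homVal φ)).index.Coprime (rPart N r) := fun φ hφ =>
    ((hr.out.coprime_iff_not_dvd.2 (not_dvd_index N P hφ)).symm).pow_right _
  have h2 := index_mul_not_coprime N a b hb.2.1 (hq a ha) (index_ne_one N P hNG hb) hab
  have h3 := index_mul_not_coprime N b a ha.2.1 (hq b hb) (index_ne_one N P hNG ha) hab.symm
  rw [mul_comm b a] at h3
  refine ⟨mul_mem_LSet N P ha hb fun h => h2 ?_, h3, h2⟩
  rw [h, show inertia N (homVal (1 : N →* ℂˣ)) = ⊤ from eq_top_iff.2 fun y _ => rfl,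
    Subgroup.index_top]
  exact Nat.coprime_one_left _

end Cfsg.Agent.CharGraph.Rel
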