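import Cfsg.Agent.CharGraph.RelativeMain

/-!
# Relative degree sets: anchored and unanchored members

A member is anchored when the orbit length of a character in some `LSet` divides it.  A member
prime to `|N : N'|` that is not anchored has a nonlinear constituent on `N`.
-/

namespace Cfsg.Agent.CharGraph.Rel

open Cfsg
open Cfsg.Agent.Char (irr_charDegree_spec)
open Cfsg.Agent.CharExt (homVal inertia)
open Cfsg.Agent.CharInd (conjChar conjClass)

universe u

variable {G : Type u} [Group G] [Finite G] (N : Subgroup G) [N.Normal]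

/-- The orbit length of a character in some `LSet` divides `z`. -/
def Anch (z : ℕ) : Prop :=
  ∃ (r : ℕ) (_ : Fact r.Prime) (P : Sylow r G) (ν : N →* ℂˣ),
    ν ∈ LSet N P ∧ (inertia N (homVal ν)).index ∣ z

/-- `z` shares no prime with `|N : N'|`. -/
def CoM (z : ℕ) : Prop := ∀ s : ℕ, s.Prime → s ∣ ⁅N, N⁆.relIndex N → ¬ s ∣ z

omit [Finite G] [N.Normal] in
theorem hom_pow_relIndex (φ : N →* ℂˣ) : φ ^ ⁅N, N⁆.relIndex N = 1 := by
  have hcard : Nat.card (Abelianization N) = ⁅N, N⁆.relIndex N := by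
    rw [Subgroup.relIndex, show ⁅N, N⁆.subgroupOf N = commutator N from ?_]
    · exact (Subgroup.index_eq_card _).symm
    rw [← Subgroup.map_subtype_commutator, Subgroup.subgroupOf,
      Subgroup.comap_map_eq_self_of_injective N.subtype_injective]
  refine MonoidHom.ext fun n => ?_
  rw [MonoidHom.pow_apply, MonoidHom.one_apply, ← Abelianization.lift_apply_of φ n, ← map_pow,
    ← hcard, pow_card_eq_one', map_one]

theorem dvd_relIndex_of_mem {r : ℕ} [hr : Fact r.Prime] {P : Sylow r G} {ν : N →* ℂˣ}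
    (hν : ν ∈ LSet N P) : r ∣ ⁅N, N⁆.relIndex N := by
  by_contra h
  exact hν.1 (MonoidHom.ext fun n => eq_one_of_pow (((hr.out.coprime_iff_not_dvd).2 h).pow_left _)
    (DFunLike.congr_fun hν.2.1 n) (DFunLike.congr_fun (hom_pow_relIndex N ν) n))

omit [Finite G] in
theorem degree_conjChar (x : G) (θ : N → ℂ) : charDegree (conjChar N x θ) = charDegree θ := by
  unfold charDegree
  congr 1
  congr 1
  rw [CharInd.conjChar_apply]
  congr 1
  ext
  simp

theorem linear_data {X : Type*} [Group X] [Finite X] {θ : X → ℂ} (hθ : IsIrrCharacter X θ)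
    (h1 : charDegree θ = 1) : ∃ φ : X →* ℂˣ, homVal φ = θ ∧ detHom θ = φ := by
  obtain ⟨φ, hφ⟩ : ∃ φ : X →* ℂˣ, homVal φ = θ :=
    ⟨(CharExt.isLin_of_isCharacter (Char.isCharacter_of_irr hθ) (by
      rw [(irr_charDegree_spec hθ).2, h1, Nat.cast_one])).toHom, CharExt.IsLin.homVal_toHom _⟩
  refine ⟨φ, hφ, CharExt.homVal_injective ?_⟩
  rw [homVal_detHom]
  funext n
  rw [← hφ]
  show detChar (fun g => ((φ g : ℂˣ) : ℂ)) n = _
  rw [CharExt.detChar_eq (Char.linRep φ) (Char.linRep_character φ) n]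
  simp [Char.linRep, homVal]

/-- A member over the twist of a character by a homomorphism of prime power order. -/
theorem twist {r : ℕ} [hr : Fact r.Prime] {θ : N → ℂ} (hθ : IsIrrCharacter N θ)
    (hθr : ¬ r ∣ charDegree θ) (hδ : detHom θ ^ rCo N r = 1) {l : N →* ℂˣ} (hl : l ≠ 1)
    (hlq : l ^ rPart N r = 1) :
    ∃ c ∈ relCharDegrees N, charDegree θ ∣ c ∧ (inertia N (homVal l)).index ∣ c := by
  have hθc := Char.isCharacter_of_irr hθ
  set θl : N → ℂ := homVal l * θ with hθl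
  have hθlirr : IsIrrCharacter N θl := homVal_mul_irr l hθ
  have hlk : detHom θl ^ rCo N r = l ^ (charDegree θ * rCo N r) := by
    rw [hθl, detHom_mul l hθc]
    refine MonoidHom.ext fun n => ?_
    have h1 : detHom θ n ^ rCo N r = 1 := DFunLike.congr_fun hδ n
    simp only [MonoidHom.pow_apply, MonoidHom.mul_apply, mul_pow, h1, mul_one, ← pow_mul]
  have hcop : (rPart N r).Coprime (charDegree θ * rCo N r) :=
    Nat.Coprime.mul_right (((hr.out.coprime_iff_not_dvd).2 hθr).pow_left _)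
      (coprime_rCo N hr.out)
  have hne : θl ≠ fun _ => 1 := by
    intro h
    refine hl (MonoidHom.ext fun n =>
      eq_one_of_pow hcop (DFunLike.congr_fun hlq n) ?_)
    have h1 : detHom (fun _ : N => (1 : ℂ)) = 1 := by
      have he : (fun _ : N => (1 : ℂ)) = homVal (1 : N →* ℂˣ) := by funext m; rfl
      obtain ⟨φ, hφ, hd⟩ := linear_data (θ := homVal (1 : N →* ℂˣ))
        (Char.isIrrCharacter_monoidHom 1) (by unfold charDegree; simp [homVal])
      rw [he, hd]
      exact CharExt.homVal_injective hφ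
    rw [h, h1] at hlk
    simpa using DFunLike.congr_fun hlk.symm n
  have hT : inertia N θl ≤ inertia N (homVal l) := by
    intro y hy
    have h1 : y ∈ inertia N (homVal (l ^ (charDegree θ * rCo N r))) := by
      rw [← hlk, homVal_pow]
      exact inertia_le_pow N _ _ (inertia_le_detHom N (Char.isCharacter_of_irr hθlirr) hy)
    obtain ⟨j, hj⟩ : ∃ j, (l ^ (charDegree θ * rCo N r)) ^ j = l :=
      exists_pow_eq_self_of_coprime (x := l) (n := charDegree θ * rCo N r)
        (Nat.Coprime.coprime_dvd_right (orderOf_dvd_of_pow_eq_one hlq) hcop.symm)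
    rw [← hj, homVal_pow]
    exact inertia_le_pow N _ _ h1
  obtain ⟨η, -, hηC, hηd⟩ := exists_over N hθlirr hne
  have hdeg : charDegree θl = charDegree θ := by
    unfold charDegree
    rw [hθl, Pi.mul_apply, show homVal l 1 = 1 from by simp [homVal], one_mul]
  rw [hdeg] at hηd
  exact ⟨_, hηC, dvd_of_mul_left_dvd hηd,
    (Subgroup.index_dvd_of_le hT).trans (dvd_of_mul_right_dvd hηd)⟩

/-- A member is within two steps of every anchored member, if the prime does not divide it. -/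
theorem common_of_anchor (hNG : N ≤ commutator G) {z d : ℕ} (hz : z ∈ relCharDegrees N)
    (hd : d ∈ relCharDegrees N) {r : ℕ} [Fact r.Prime] {P : Sylow r G} {ν : N →* ℂˣ}
    (hν : ν ∈ LSet N P) (hνd : (inertia N (homVal ν)).index ∣ d) (hrz : ¬ r ∣ z) :
    ∃ f ∈ relCharDegrees N, 1 < Nat.gcd z f ∧ 1 < Nat.gcd f d := by
  have hz1 := one_lt_of_mem_rel N hNG hz
  rcases alternative N P hNG hz hrz with ⟨μ, hμ, hμz⟩ | h
  · by_cases hcop : (inertia N (homVal μ)).index.Coprime (inertia N (homVal ν)).index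
    · obtain ⟨hmem, h1, h2⟩ := exists_common N P hNG hμ hν hcop
      obtain ⟨f, hf, hfd⟩ := exists_multiple N P hmem
      have hf0 : 0 < f := zero_lt_one.trans (one_lt_of_mem_rel N hNG hf)
      exact ⟨f, hf, by rw [Nat.gcd_comm]; exact one_lt_gcd h1 hfd hμz hf0,
        one_lt_gcd h2 hfd hνd hf0⟩
    · exact ⟨z, hz, by rwa [Nat.gcd_self], one_lt_gcd hcop hμz hνd (zero_lt_one.trans hz1)⟩
  · obtain ⟨c, hc, hg, hνc, -⟩ := h ν hν.1 hν.2.1
    refine ⟨c, hc, hg, one_lt_gcd (fun hh => ?_) hνc hνd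
      (zero_lt_one.trans (one_lt_of_mem_rel N hNG hc))⟩
    exact index_ne_one N P hNG hν ((Nat.coprime_self _).1 hh)

/-- A member prime to `|N : N'|` is within two steps of every anchored member. -/
theorem common_of_coM (hNG : N ≤ commutator G) {z d : ℕ} (hz : z ∈ relCharDegrees N)
    (hzm : CoM N z) (hd : d ∈ relCharDegrees N) (ha : Anch N d) :
    ∃ f ∈ relCharDegrees N, 1 < Nat.gcd z f ∧ 1 < Nat.gcd f d := by
  obtain ⟨r, hr, P, ν, hν, hνd⟩ := ha
  exact common_of_anchor N hNG hz hd hν hνd (hzm r hr.out (dvd_relIndex_of_mem N hν))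

theorem relCharDegrees_mono {K : Subgroup G} (h : K ≤ N) :
    relCharDegrees K ⊆ relCharDegrees N := fun _ ⟨χ, ⟨x, hx, hxχ⟩, hd⟩ => ⟨χ, ⟨x, h hx, hxχ⟩, hd⟩

/-- Either all primes of `K` divide `m`, or some subgroup below gives a new prime. -/
theorem exists_level [Group.IsSolvable N] (m : ℕ) :
    ∀ K : Subgroup G, K.Normal → K ≤ N →
      (∀ q : ℕ, q.Prime → q ∣ K.relIndex N → q ∣ m) →
      (∀ q : ℕ, q.Prime → q ∣ Nat.card K → q ∣ m) ∨
        ∃ (L : Subgroup G) (p : ℕ), L.Normal ∧ L ≤ N ∧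
          (∀ q : ℕ, q.Prime → q ∣ L.relIndex N → q ∣ m) ∧
          p.Prime ∧ ¬ p ∣ m ∧ p ∣ ⁅L, L⁆.relIndex L := by
  intro K
  induction K using WellFoundedLT.induction with
  | ind K ih =>
    intro hK hKN hq
    by_cases hbot : K = ⊥
    · subst hbot
      refine Or.inl fun q hq' hd => ?_
      rw [Subgroup.card_bot, Nat.dvd_one] at hd
      exact absurd hd hq'.ne_one
    by_cases hex : ∃ p : ℕ, p.Prime ∧ ¬ p ∣ m ∧ p ∣ ⁅K, K⁆.relIndex K
    · obtain ⟨p, hp, hpm, hpK⟩ := hex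
      exact Or.inr ⟨K, p, hK, hKN, hq, hp, hpm, hpK⟩
    push Not at hex
    haveI : Group.IsSolvable K := Group.isSolvable_of_isSolvable_injective (Subgroup.inclusion_injective hKN)
    have hne : Nontrivial K := (Subgroup.nontrivial_iff_ne_bot K).2 hbot
    have hle : ⁅K, K⁆ ≤ K := Subgroup.commutator_le_self K
    have hlt : ⁅K, K⁆ < K := by
      refine lt_of_le_of_ne hle fun he => (Group.IsSolvable.commutator_lt_top_of_nontrivial (G := K)).ne ?_
      refine (Subgroup.map_injective K.subtype_injective) ?_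
      rw [Subgroup.map_subtype_commutator, he, ← MonoidHom.range_eq_map, Subgroup.range_subtype]
    have hq' : ∀ q : ℕ, q.Prime → q ∣ ⁅K, K⁆.relIndex N → q ∣ m := by
      intro q hq1 hd
      rw [← Subgroup.relIndex_mul_relIndex _ _ _ hle hKN] at hd
      rcases (Nat.Prime.dvd_mul hq1).1 hd with h | h
      · by_contra hc
        exact hex q hq1 hc h
      · exact hq q hq1 h
    haveI := hK
    rcases ih ⁅K, K⁆ hlt inferInstance (hle.trans hKN) hq' with h | h
    · refine Or.inl fun q hq1 hd => ?_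
      rw [← Subgroup.relIndex_bot_left, ← Subgroup.relIndex_mul_relIndex _ _ _ bot_le hle,
        Subgroup.relIndex_bot_left] at hd
      rcases (Nat.Prime.dvd_mul hq1).1 hd with h' | h'
      · exact h q hq1 h'
      · by_contra hc
        exact hex q hq1 hc h'
    · exact Or.inr h

theorem relIndex_sup_of_normal (T : Subgroup G) : T.relIndex (T ⊔ N) = T.relIndex N := by
  have h1 := Subgroup.relIndex_mul_relIndex (⊥ : Subgroup G) T (T ⊔ N) bot_le le_sup_left
  have h2 := Subgroup.relIndex_mul_relIndex (⊥ : Subgroup G) N (T ⊔ N) bot_le le_sup_right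
  have h3 := Subgroup.relIndex_mul_relIndex (⊥ : Subgroup G) (T ⊓ N) T bot_le inf_le_left
  have h4 := Subgroup.relIndex_mul_relIndex (⊥ : Subgroup G) (T ⊓ N) N bot_le inf_le_right
  simp only [Subgroup.relIndex_bot_left, Subgroup.inf_relIndex_left, Subgroup.inf_relIndex_right]
    at h1 h2 h3 h4
  rw [Subgroup.relIndex_sup_right, ← h4, ← h1] at h2
  rw [← h3] at h2
  refine Nat.eq_of_mul_eq_mul_left (Nat.pos_of_ne_zero (fun h => ?_)) ?_ (n := Nat.card (T ⊓ N : Subgroup G) * N.relIndex T)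
  · exact (Nat.mul_ne_zero Nat.card_pos.ne' (Subgroup.index_ne_zero_of_finite (H := N.subgroupOf T))) h
  · linarith

/-- At such a level every nontrivial `p`-power character moves under `N`. -/
theorem exists_prime_dvd_index {K : Subgroup G} [K.Normal] (hKN : K ≤ N) {p : ℕ}
    (hp : p.Prime) (hpm : ¬ p ∣ ⁅N, N⁆.relIndex N)
    (hq : ∀ q : ℕ, q.Prime → q ∣ K.relIndex N → q ∣ ⁅N, N⁆.relIndex N) {l : K →* ℂˣ} (hl : l ≠ 1)
    (hlp : l ^ rPart K p = 1) :
    ∃ s : ℕ, s.Prime ∧ s ∣ ⁅N, N⁆.relIndex N ∧ s ∣ (inertia K (homVal l)).index := by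
  classical
  set T := inertia K (homVal l) with hT
  have hKT : K ≤ T := CharExt.le_inertia K
    (Char.isCharacter_isClassFunction (Char.isCharacter_of_irr (Char.isIrrCharacter_monoidHom l)))
  by_cases hNT : N ≤ T
  · exfalso
    let e := Subgroup.subgroupOfEquivOfLe hKN
    let l' : K.subgroupOf N →* ℂˣ := l.comp e.toMonoidHom
    have hpd : ¬ p ∣ (K.subgroupOf N).index := fun h => hpm (hq p hp h)
    have hinv : ∀ (g : N) (n : K.subgroupOf N),
        l' ⟨g * n * g⁻¹, Subgroup.Normal.conj_mem inferInstance (n : N) n.2 g⟩ = l' n :=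
      fun g n => Units.ext (congrFun (CharExt.mem_inertia.1 (hNT g.2)) (e n))
    obtain ⟨μ, hμ⟩ := CharExt.exists_extension_of_sylow (K.subgroupOf N) l' hinv
      (fun r hr hro => by
        have hrp : r = p := (Nat.prime_dvd_prime_iff_eq hr hp).1
          (hr.dvd_of_dvd_pow (hro.trans (orderOf_dvd_of_pow_eq_one (show l' ^ rPart K p = 1 from
            MonoidHom.ext fun x => DFunLike.congr_fun hlp (e x)))))
        subst hrp
        exact ⟨K.subgroupOf N, le_rfl, l', (hp.coprime_iff_not_dvd.2 hpd).symm, fun _ => rfl⟩)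
    refine hl (MonoidHom.ext fun x => ?_)
    refine eq_one_of_pow (((hp.coprime_iff_not_dvd).2 hpm).pow_left _)
      (DFunLike.congr_fun hlp x) ?_
    have h1 := DFunLike.congr_fun (hom_pow_relIndex N μ) ((e.symm x : K.subgroupOf N) : N)
    rw [MonoidHom.pow_apply, hμ] at h1
    simpa [l'] using h1
  · obtain ⟨s, hs, hsd⟩ := Nat.exists_prime_and_dvd
      (n := T.relIndex N) (fun h => hNT (Subgroup.relIndex_eq_one.1 h))
    refine ⟨s, hs, hq s hs (hsd.trans (Subgroup.relIndex_dvd_of_le_left N hKT)), ?_⟩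
    refine hsd.trans ⟨(T ⊔ N).index, ?_⟩
    rw [← relIndex_sup_of_normal N T, Subgroup.relIndex_mul_index le_sup_left]

/-- The members prime to `|N : N'|` that are not anchored. -/
theorem exists_unanchored_data [Group.IsSolvable N] (hNG : N ≤ commutator G) :
    ∃ p : ℕ, p.Prime ∧ ∀ z ∈ relCharDegrees N, CoM N z → ¬ Anch N z → ∃ d : ℕ, 1 < d ∧ d ∣ z ∧
      (∀ (r : ℕ) (_ : Fact r.Prime) (P : Sylow r G) (ν : N →* ℂˣ), ν ∈ LSet N P →
        ∃ c ∈ relCharDegrees N, d ∣ c ∧ (inertia N (homVal ν)).index ∣ c) ∧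
      (p ∣ d ∨ ∃ c ∈ relCharDegrees N, d ∣ c ∧
        ∃ s : ℕ, s.Prime ∧ s ∣ ⁅N, N⁆.relIndex N ∧ s ∣ c) := by
  classical
  letI := Fintype.ofFinite G
  letI := Fintype.ofFinite N
  set m := ⁅N, N⁆.relIndex N with hm
  -- the data of one member
  have core : ∀ z ∈ relCharDegrees N, CoM N z → ¬ Anch N z →
      ∃ (χ : IrrCharacter G) (θ : N → ℂ), IsIrrCharacter N θ ∧
        classInner (fun n : N => (χ : G → ℂ) n) θ ≠ 0 ∧ charDegree (χ : G → ℂ) = z ∧
        1 < charDegree θ ∧ charDegree θ ∣ z ∧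
        ∀ (r : ℕ) (_ : Fact r.Prime) (P : Sylow r G) (ν : N →* ℂˣ), ν ∈ LSet N P →
          ∃ c ∈ relCharDegrees N, charDegree θ ∣ c ∧ (inertia N (homVal ν)).index ∣ c := by
    rintro z ⟨χ, ⟨x, hx, hxχ⟩, rfl⟩ hzm hza
    obtain ⟨θ₀, n₀, hn₀, hn₀'⟩ := Char.exists_irr_constituent (Char.isCharacter_restrict
      (Char.isCharacter_of_irr χ.2) N) (fun h => Char.irr_one_ne_zero χ.2 (congrFun h 1))
    have hθ₀ : classInner (fun n : N => (χ : G → ℂ) n) (θ₀ : N → ℂ) ≠ 0 := by
      rw [hn₀']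
      exact_mod_cast hn₀.ne'
    obtain ⟨e, -, hdeg, -⟩ := degree_eq N χ.2 θ₀.2 hθ₀
    have hdvd : charDegree (θ₀ : N → ℂ) ∣ charDegree (χ : G → ℂ) := hdeg ▸ dvd_mul_left _ _
    -- data at a prime of `m`
    have hloc : ∀ (r : ℕ) (_ : Fact r.Prime) (P : Sylow r G), r ∣ m →
        ∃ g : G, ¬ r ∣ charDegree (θ₀ : N → ℂ) ∧
          detHom (conjChar N g (θ₀ : N → ℂ)) ^ rCo N r = 1 := by
      intro r hr P hrm
      obtain ⟨θ, hθ, hχθ, hθr, μ, hμ⟩ := exists_data N P χ (hzm r hr.out hrm)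
      obtain ⟨g, rfl⟩ := (CharInd.mem_conjClass N).1
        (CharExt.mem_conjClass_of_constituent N χ.2 θ₀.2 hθ hθ₀ hχθ)
      refine ⟨g, by rwa [degree_conjChar] at hθr, ?_⟩
      by_contra hδ
      refine hza ⟨r, hr, P, detHom (conjChar N g (θ₀ : N → ℂ)) ^ rCo N r,
        ⟨hδ, pow_rCo_pow N _ r, μ ^ rCo N r, fun n => ?_⟩, ?_⟩
      · rw [MonoidHom.pow_apply, MonoidHom.pow_apply, hμ]
      · have h1 : inertia N (conjChar N g (θ₀ : N → ℂ)) ≤
            inertia N (homVal (detHom (conjChar N g (θ₀ : N → ℂ)) ^ rCo N r)) := by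
          rw [homVal_pow]
          exact (inertia_le_detHom N (Char.isCharacter_of_irr hθ)).trans (inertia_le_pow N _ _)
        obtain ⟨e', -, hdeg', -⟩ := degree_eq N χ.2 hθ hχθ
        refine (Subgroup.index_dvd_of_le h1).trans ?_
        rw [hdeg']
        exact dvd_mul_of_dvd_left (dvd_mul_left _ _) _
    have hθ1 : 1 < charDegree (θ₀ : N → ℂ) := by
      by_contra hle
      have h1 : charDegree (θ₀ : N → ℂ) = 1 := by
        have := (irr_charDegree_spec θ₀.2).1
        omega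
      obtain ⟨φ, hφ, hdet⟩ := linear_data θ₀.2 h1
      have hne : φ ≠ 1 := fun h => constituent_ne_one N χ.2 hx hxχ θ₀.2 hθ₀ (by
        rw [← hφ, h]; funext n; rfl)
      obtain ⟨r, hr, hrd⟩ := Nat.exists_prime_and_dvd
        (n := orderOf φ) (fun h => hne (orderOf_eq_one_iff.1 h))
      haveI := Fact.mk hr
      obtain ⟨g, -, hg⟩ := hloc r inferInstance default
        (hrd.trans (orderOf_dvd_of_pow_eq_one (hom_pow_relIndex N φ)))
      rw [detHom_conjChar N (Char.isCharacter_of_irr θ₀.2), hdet] at hg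
      refine not_dvd_rCo N hr (hrd.trans (orderOf_dvd_of_pow_eq_one (MonoidHom.ext fun n => ?_)))
      obtain ⟨k, hk⟩ := (MulAut.conjNormal g : MulAut N).surjective n
      rw [← hk]
      exact DFunLike.congr_fun hg k
    refine ⟨χ, θ₀, θ₀.2, hθ₀, rfl, hθ1, hdvd, fun r hr P ν hν => ?_⟩
    obtain ⟨g, hgr, hg⟩ := hloc r hr P (dvd_relIndex_of_mem N hν)
    have hirr : IsIrrCharacter N (conjChar N g (θ₀ : N → ℂ)) := by
      rw [CharInd.conjChar_eq_comp]
      exact CharInd.irr_comp_surjective _ (MulAut.conjNormal g : MulAut N).surjective θ₀.2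
    obtain ⟨c, hc, hd, ht⟩ := twist N hirr (r := r)
      (by rwa [degree_conjChar]) hg hν.1 hν.2.1
    exact ⟨c, hc, by rwa [degree_conjChar] at hd, ht⟩
  rcases exists_level N m N inferInstance le_rfl (fun q hq h => by
    rw [Subgroup.relIndex_self, Nat.dvd_one] at h
    exact absurd h hq.ne_one) with hall | ⟨K, p, hK, hKN, hq, hp, hpm, hpK⟩
  · refine ⟨2, Nat.prime_two, fun z hz hzm hza => ?_⟩
    obtain ⟨χ, θ, hθ, -, -, hθ1, hdvd, -⟩ := core z hz hzm hza
    obtain ⟨s, hs, hsd⟩ := Nat.exists_prime_and_dvd hθ1.ne'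
    exact absurd (hsd.trans hdvd)
      (hzm s hs (hall s hs (hsd.trans (BlkChar.irr_charDegree_dvd_card ⟨θ, hθ⟩))))
  haveI := hK
  haveI := Fact.mk hp
  refine ⟨p, hp, fun z hz hzm hza => ?_⟩
  obtain ⟨χ, θ, hθ, hχθ, hχz, hθ1, hdvd, htw⟩ := core z hz hzm hza
  refine ⟨charDegree θ, hθ1, hdvd, htw, ?_⟩
  by_cases hpd : p ∣ charDegree θ
  · exact Or.inl hpd
  right
  letI := Fintype.ofFinite K
  letI := Fintype.ofFinite (K.subgroupOf N)
  have hcop : (charDegree θ).Coprime (K.subgroupOf N).index :=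
    Nat.coprime_of_dvd fun s hs h1 h2 => hzm s hs (hq s hs h2) (h1.trans hdvd)
  set φ : K → ℂ := fun k => θ ⟨k, hKN k.2⟩ with hφdef
  have hφ : IsIrrCharacter K φ :=
    CharInd.irr_comp_surjective (Subgroup.subgroupOfEquivOfLe hKN).symm.toMonoidHom
      (Subgroup.subgroupOfEquivOfLe hKN).symm.surjective
      (isIrr_restrict_of_coprime (K.subgroupOf N) hθ hcop)
  have hφd : charDegree φ = charDegree θ := by unfold charDegree; rw [hφdef]; rfl
  have hχφ : classInner (fun k : K => (χ : G → ℂ) k) φ ≠ 0 := by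
    have hres := Char.isCharacter_restrict (Char.isCharacter_of_irr χ.2) N
    obtain ⟨n, hn⟩ := Char.isCharacter_classInner_nat hres ⟨θ, hθ⟩
    have hn0 : 0 < n := Nat.pos_of_ne_zero fun h => hχθ (by rw [hn, h, Nat.cast_zero])
    have hrest := Char.isCharacter_sub_constituent hres hn0 hn
    have h2 : IsCharacter K (fun k : K => (χ : G → ℂ) k - θ ⟨k, hKN k.2⟩) :=
      CharInd.isCharacter_comp (Subgroup.inclusion hKN) hrest
    obtain ⟨j, hj⟩ := Char.isCharacter_classInner_nat h2 ⟨φ, hφ⟩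
    have h3 : (fun k : K => (χ : G → ℂ) k) =
        φ + (fun k : K => (χ : G → ℂ) k - θ ⟨k, hKN k.2⟩) := by
      funext k
      simp [hφdef]
    rw [h3, Char.classInner_add_left, Char.classInner_irr_self hφ, hj]
    exact_mod_cast (by omega : 1 + j ≠ 0)
  obtain ⟨e, -, hdeg, -⟩ := degree_eq K χ.2 hφ hχφ
  have hδ : detHom φ ^ rCo K p = 1 := by
    by_contra h
    obtain ⟨s, hs, hsm, hst⟩ := exists_prime_dvd_index N hKN hp hpm hq h (pow_rCo_pow K _ p)
    refine hzm s hs hsm (hst.trans ?_)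
    have h1 : inertia K φ ≤ inertia K (homVal (detHom φ ^ rCo K p)) := by
      rw [homVal_pow]
      exact (inertia_le_detHom K (Char.isCharacter_of_irr hφ)).trans (inertia_le_pow K _ _)
    refine (Subgroup.index_dvd_of_le h1).trans ?_
    rw [← hχz, hdeg]
    exact dvd_mul_of_dvd_left (dvd_mul_left _ _) _
  obtain ⟨l, hl, hlp⟩ := exists_rHom K hp hpK
  obtain ⟨c, hc, hdc, hlc⟩ := twist K hφ (r := p) (by rwa [hφd]) hδ hl hlp
  obtain ⟨s, hs, hsm, hst⟩ := exists_prime_dvd_index N hKN hp hpm hq hl hlp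
  exact ⟨c, relCharDegrees_mono N hKN hc, hφd ▸ hdc, s, hs, hsm, hst.trans hlc⟩

end Cfsg.Agent.CharGraph.Rel
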