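import Cfsg.Agent.CharGraph.Relative

/-!
# Relative degree sets: the determinant alternative
-/

namespace Cfsg.Agent.CharGraph.Rel

open Cfsg
open Cfsg.Agent.Char (irr_charDegree_spec)
open Cfsg.Agent.CharExt (homVal inertia)
open Cfsg.Agent.CharInd (conjChar conjClass)
open scoped ComplexConjugate

universe u

variable {G : Type u} [Group G] [Finite G] (N : Subgroup G) [N.Normal]

/-- The determinant of a function as a homomorphism. -/
noncomputable def detHom {X : Type*} [Group X] [Finite X] (θ : X → ℂ) : X →* ℂˣ :=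
  (CharExt.detChar_isLin θ).toHom

theorem homVal_detHom {X : Type*} [Group X] [Finite X] (θ : X → ℂ) :
    homVal (detHom θ) = detChar θ := CharExt.IsLin.homVal_toHom _

theorem detChar_conjChar {θ : N → ℂ} (hθ : IsCharacter N θ) (x : G) :
    detChar (conjChar N x θ) = conjChar N x (detChar θ) := by
  obtain ⟨k, ρ, rfl⟩ := hθ
  funext n
  rw [CharExt.detChar_eq (ρ.comp (MulAut.conjNormal x : MulAut N).toMonoidHom)
      (CharInd.conjChar_eq_comp N x ρ.character).symm,
    CharInd.conjChar_eq_comp]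
  show _ = detChar ρ.character _
  rw [CharExt.detChar_eq ρ rfl]
  rfl

theorem detHom_conjChar {θ : N → ℂ} (hθ : IsCharacter N θ) (x : G) :
    detHom (conjChar N x θ) = cjHom N x (detHom θ) :=
  CharExt.homVal_injective (by
    rw [homVal_cjHom, homVal_detHom, homVal_detHom, detChar_conjChar N hθ])

theorem homVal_pow {X : Type*} [Group X] (φ : X →* ℂˣ) (k : ℕ) :
    homVal (φ ^ k) = homVal φ ^ k := funext fun x => by
  show (((φ ^ k) x : ℂˣ) : ℂ) = ((φ x : ℂˣ) : ℂ) ^ k
  rw [MonoidHom.pow_apply, Units.val_pow_eq_pow_val]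

theorem inertia_le_detHom {θ : N → ℂ} (hθ : IsCharacter N θ) :
    inertia N θ ≤ inertia N (homVal (detHom θ)) := fun x hx => by
  refine CharExt.mem_inertia.2 ?_
  rw [← homVal_cjHom, ← detHom_conjChar N hθ, CharExt.mem_inertia.1 hx]

theorem detHom_mul {X : Type*} [Group X] [Finite X] (l : X →* ℂˣ) {θ : X → ℂ}
    (hθ : IsCharacter X θ) : detHom (homVal l * θ) = l ^ charDegree θ * detHom θ := by
  obtain ⟨k, ρ, rfl⟩ := hθ
  have hk : charDegree ρ.character = k := by
    unfold charDegree
    rw [ρ.char_one, Module.finrank_fintype_fun_eq_card, Fintype.card_fin]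
    simp
  let σ : Representation ℂ X (Fin k → ℂ) :=
    { toFun := fun x => (l x : ℂ) • ρ x
      map_one' := by simp
      map_mul' := fun a b => by
        rw [map_mul, map_mul, Units.val_mul, smul_mul_smul_comm] }
  have hσ : σ.character = homVal l * ρ.character := by
    funext x
    show LinearMap.trace ℂ _ ((l x : ℂ) • ρ x) = (l x : ℂ) * LinearMap.trace ℂ _ (ρ x)
    rw [map_smul, smul_eq_mul]
  refine MonoidHom.ext fun x => Units.ext ?_
  show detChar (homVal l * ρ.character) x =
    (((l ^ charDegree ρ.character) x * detHom ρ.character x : ℂˣ) : ℂ)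
  rw [Units.val_mul, CharExt.detChar_eq σ hσ, hk, MonoidHom.pow_apply, Units.val_pow_eq_pow_val]
  show LinearMap.det ((l x : ℂ) • ρ x) = (l x : ℂ) ^ k * detChar ρ.character x
  rw [LinearMap.det_smul, Module.finrank_fintype_fun_eq_card, Fintype.card_fin,
    CharExt.detChar_eq ρ rfl]

/-- If all powers of `x` in the derived subgroup act as powers of a scalar `z`, then
`z ^ degree = 1`. -/
theorem pow_degree_eq_one {χ : G → ℂ} (hχ : IsIrrCharacter G χ) {x : G} (hx : x ∈ commutator G)
    (z : ℂ) (h : ∀ k : ℕ, χ (x ^ k) = (charDegree χ : ℂ) * z ^ k) : z ^ charDegree χ = 1 := by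
  obtain ⟨k, ρ, rfl⟩ := Char.isCharacter_of_irr hχ
  have hk : charDegree ρ.character = Module.finrank ℂ (Fin k → ℂ) := by
    unfold charDegree
    rw [ρ.char_one]
    simp
  obtain ⟨b, ε, hb, -⟩ := Char.exists_eigenbasis ρ x
  have hdet : LinearMap.det (ρ x) = ∏ i, ε i := by
    rw [← LinearMap.det_toMatrix b, ← Matrix.det_diagonal]
    congr 1
    ext i j
    rw [LinearMap.toMatrix_apply, hb j, map_smul, Module.Basis.repr_self]
    by_cases hij : i = j
    · subst hij; simp
    · simp [hij, Ne.symm hij]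
  have hprod : ∏ i, ε i = ∏ _i : Fin (Module.finrank ℂ (Fin k → ℂ)), z :=
    CharExt.prod_eq_of_power_sums_eq ε (fun _ => z) fun n => by
      rw [← Char.character_pow_eq_sum ρ hb n, h n, hk, Finset.sum_const, Finset.card_univ,
        Fintype.card_fin, nsmul_eq_mul]
  rw [Finset.prod_const, Finset.card_univ, Fintype.card_fin] at hprod
  rw [hk]
  have h1 : detHom ρ.character x = 1 := Abelianization.commutator_subset_ker _ hx
  have h2 : detChar ρ.character x = 1 := by
    rw [← homVal_detHom]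
    show ((detHom ρ.character x : ℂˣ) : ℂ) = 1
    rw [h1, Units.val_one]
  rw [CharExt.detChar_eq ρ rfl, hdet, hprod] at h2
  exact h2

variable {r : ℕ} (P : Sylow r G)

/-- A character of degree prime to `r` has a constituent on `N` whose determinant extends. -/
theorem exists_data [hr : Fact r.Prime] (χ : IrrCharacter G)
    (hd : ¬ r ∣ charDegree (χ : G → ℂ)) :
    letI := Fintype.ofFinite N
    ∃ θ : N → ℂ, IsIrrCharacter N θ ∧ classInner (fun n : N => (χ : G → ℂ) n) θ ≠ 0 ∧
      ¬ r ∣ charDegree θ ∧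
      ∃ μ : ↥((P : Subgroup G) ⊔ N) →* ℂˣ,
        ∀ n : N, μ ⟨n, le_sup_right (a := (P : Subgroup G)) n.2⟩ = detHom θ n := by
  classical
  letI := Fintype.ofFinite G
  letI := Fintype.ofFinite N
  set M : Subgroup G := (P : Subgroup G) ⊔ N with hM
  letI := Fintype.ofFinite M
  have hNM : N ≤ M := le_sup_right
  have hres := CharInd.isCharacter_res M (Char.isCharacter_of_irr χ.2)
  obtain ⟨ξ, hξr, hξ⟩ := BlkChar.exists_constituent_not_dvd hres (p := r)
    (by simpa [charDegree] using hd)
  obtain ⟨n, hn⟩ := Char.isCharacter_classInner_nat hres ξ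
  have hn0 : 0 < n := Nat.pos_of_ne_zero fun h => hξ (by rw [hn, h, Nat.cast_zero])
  have hrest := Char.isCharacter_sub_constituent hres hn0 hn
  have hcop : (charDegree (ξ : M → ℂ)).Coprime (N.subgroupOf M).index := by
    have h1 : (N.subgroupOf M).index ∣ Nat.card P := by
      show N.relIndex M ∣ _
      rw [hM, Subgroup.relIndex_sup_right]
      exact (N.subgroupOf (P : Subgroup G)).index_dvd_card
    obtain ⟨k, hk⟩ := P.2.exists_card_eq
    rw [show Nat.card P = r ^ k from hk] at h1
    exact Nat.Coprime.coprime_dvd_right h1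
      (((hr.out.coprime_iff_not_dvd).2 hξr).symm.pow_right _)
  have hirr := isIrr_restrict_of_coprime (N.subgroupOf M) ξ.2 hcop
  let e : N →* N.subgroupOf M := (Subgroup.subgroupOfEquivOfLe hNM).symm.toMonoidHom
  have hθ : IsIrrCharacter N (fun m : N => (ξ : M → ℂ) ⟨m, hNM m.2⟩) :=
    CharInd.irr_comp_surjective e (Subgroup.subgroupOfEquivOfLe hNM).symm.surjective hirr
  set θ : N → ℂ := fun m => (ξ : M → ℂ) ⟨m, hNM m.2⟩ with hθdef
  refine ⟨θ, hθ, ?_, ?_, detHom (ξ : M → ℂ) |>.comp (MonoidHom.id _), fun m => ?_⟩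
  · have h2 : IsCharacter N (fun m : N => (χ : G → ℂ) m - (ξ : M → ℂ) ⟨m, hNM m.2⟩) :=
      CharInd.isCharacter_comp (Subgroup.inclusion hNM) hrest
    obtain ⟨j, hj⟩ := Char.isCharacter_classInner_nat h2 ⟨θ, hθ⟩
    have h3 : (fun m : N => (χ : G → ℂ) m) =
        θ + (fun m : N => (χ : G → ℂ) m - (ξ : M → ℂ) ⟨m, hNM m.2⟩) := by
      funext m
      simp [hθdef]
    rw [h3, Char.classInner_add_left, Char.classInner_irr_self hθ, hj]
    exact_mod_cast (by omega : 1 + j ≠ 0)
  · have : charDegree θ = charDegree (ξ : M → ℂ) := by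
      unfold charDegree
      rw [hθdef]
      rfl
    rwa [this]
  · refine Units.ext ?_
    show detChar (ξ : M → ℂ) ⟨m, hNM m.2⟩ = detChar θ m
    have h4 := CharExt.detChar_restrict (N := N.subgroupOf M) (Char.isCharacter_of_irr ξ.2)
      (ϑ := fun y : N.subgroupOf M => (ξ : M → ℂ) y) (fun _ => rfl) (e m)
    obtain ⟨k, ρ, hρ⟩ := Char.isCharacter_of_irr hirr
    have h5 := CharExt.detChar_eq (ρ.comp e) (χ := θ) (by
      funext y
      exact congrFun hρ (e y)) m
    rw [h5]
    have h6 := CharExt.detChar_eq ρ hρ (e m)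
    exact (h4.trans h6)

/-- The alternative for a member of the relative degree set prime to `r`. -/
theorem alternative [hr : Fact r.Prime] (hNG : N ≤ commutator G) {a : ℕ}
    (ha : a ∈ relCharDegrees N) (hra : ¬ r ∣ a) :
    (∃ ν ∈ LSet N P, (inertia N (homVal ν)).index ∣ a) ∨
      ∀ l : N →* ℂˣ, l ≠ 1 → l ^ rPart N r = 1 → ∃ c ∈ relCharDegrees N,
        1 < Nat.gcd a c ∧ (inertia N (homVal l)).index ∣ c ∧
        (¬ r ∣ c → ∃ ν, ν ∈ LSet N P) := by
  classical
  letI := Fintype.ofFinite G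
  letI := Fintype.ofFinite N
  obtain ⟨χ, ⟨x, hx, hxχ⟩, rfl⟩ := ha
  obtain ⟨θ, hθ, hχθ, hθr, μ, hμ⟩ := exists_data N P χ hra
  have hθ1 : θ ≠ fun _ => 1 := constituent_ne_one N χ.2 hx hxχ hθ hχθ
  obtain ⟨e, he, hdeg, hres⟩ := degree_eq N χ.2 hθ hχθ
  have hθc := Char.isCharacter_of_irr hθ
  by_cases hδ : detHom θ ^ rCo N r = 1
  swap
  · refine Or.inl ⟨detHom θ ^ rCo N r, ⟨hδ, pow_rCo_pow N _ r, μ ^ rCo N r, fun n => ?_⟩, ?_⟩
    · rw [MonoidHom.pow_apply, MonoidHom.pow_apply, hμ]
    · have h1 : inertia N θ ≤ inertia N (homVal (detHom θ ^ rCo N r)) := by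
        rw [homVal_pow]
        exact (inertia_le_detHom N hθc).trans (inertia_le_pow N _ _)
      refine (Subgroup.index_dvd_of_le h1).trans ?_
      rw [hdeg]
      exact dvd_mul_of_dvd_left (dvd_mul_left _ _) _
  refine Or.inr fun l hl hlq => ?_
  have hlk : (detHom θ * l ^ charDegree θ) ^ rCo N r = l ^ (charDegree θ * rCo N r) := by
    refine MonoidHom.ext fun n => ?_
    have h1 : detHom θ n ^ rCo N r = 1 := DFunLike.congr_fun hδ n
    simp only [MonoidHom.pow_apply, MonoidHom.mul_apply, mul_pow, h1, one_mul, ← pow_mul]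
  have hcop : (rPart N r).Coprime (charDegree θ * rCo N r) :=
    Nat.Coprime.mul_right (((hr.out.coprime_iff_not_dvd).2 hθr).pow_left _)
      (coprime_rCo N hr.out)
  have hlk1 : l ^ (charDegree θ * rCo N r) ≠ 1 := fun h => hl (MonoidHom.ext fun n =>
    eq_one_of_pow hcop (DFunLike.congr_fun hlq n) (DFunLike.congr_fun h n))
  set θl : N → ℂ := homVal l * θ with hθl
  have hθlirr : IsIrrCharacter N θl := homVal_mul_irr l hθ
  have hdθl : detHom θl = detHom θ * l ^ charDegree θ := by
    rw [hθl, detHom_mul l hθc]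
    exact MonoidHom.ext fun n => mul_comm _ _
  have hθl1 : θl ≠ fun _ => 1 := fun h => by
    refine hlk1 ?_
    rw [← hlk, ← hdθl, h]
    have h1 : detHom (fun _ : N => (1 : ℂ)) = 1 := by
      refine CharExt.homVal_injective ?_
      rw [homVal_detHom, map_one]
      funext n
      rw [CharExt.detChar_eq (Representation.trivial ℂ N ℂ) (by
        funext m; simp [Representation.character]) n]
      simp
    rw [h1]
    exact MonoidHom.ext fun n => one_pow _
  -- the stabiliser of the twist
  have hT : inertia N θl ≤ inertia N (homVal l) := by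
    intro y hy
    have h1 : y ∈ inertia N (homVal (l ^ (charDegree θ * rCo N r))) := by
      rw [← hlk, ← hdθl, homVal_pow]
      exact inertia_le_pow N _ _ (inertia_le_detHom N (Char.isCharacter_of_irr hθlirr) hy)
    obtain ⟨j, hj⟩ : ∃ j, (l ^ (charDegree θ * rCo N r)) ^ j = l := by
      obtain ⟨j, hj⟩ := exists_pow_eq_self_of_coprime (x := l)
        (n := charDegree θ * rCo N r)
        (Nat.Coprime.coprime_dvd_right (orderOf_dvd_of_pow_eq_one hlq) hcop.symm)
      exact ⟨j, hj⟩
    rw [← hj, homVal_pow]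
    exact inertia_le_pow N _ _ h1
  have hT2 : inertia N θl ≤ inertia N θ := by
    intro y hy
    refine CharExt.mem_inertia.2 (funext fun n => ?_)
    have h1 := congrFun (CharExt.mem_inertia.1 hy) n
    have h2 := congrFun (CharExt.mem_inertia.1 (hT hy)) n
    rw [CharInd.conjChar_apply] at h1 h2
    simp only [hθl, Pi.mul_apply, h2] at h1
    rw [CharInd.conjChar_apply]
    exact mul_left_cancel₀ (show homVal l n ≠ 0 from Units.ne_zero _) h1
  obtain ⟨η, hη, hηC, hηd⟩ := exists_over N hθlirr hθl1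
  have hdeg_l : charDegree θl = charDegree θ := by
    unfold charDegree
    rw [hθl, Pi.mul_apply, show homVal l 1 = 1 from by simp [homVal], one_mul]
  rw [hdeg_l] at hηd
  refine ⟨_, hηC, ?_, (Subgroup.index_dvd_of_le hT).trans (dvd_of_mul_right_dvd hηd), fun hrc => ?_⟩
  · -- the common divisor
    by_cases hu : (inertia N θ).index * charDegree θ = 1
    swap
    · have h1 : (inertia N θ).index * charDegree θ ∣ charDegree (η : G → ℂ) :=
        (Nat.mul_dvd_mul_right (Subgroup.index_dvd_of_le hT2) _).trans hηd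
      have h2 : (inertia N θ).index * charDegree θ ∣ charDegree (χ : G → ℂ) :=
        ⟨e, by rw [hdeg]; ring⟩
      have h3 := Nat.le_of_dvd (Nat.gcd_pos_of_pos_left _ (irr_charDegree_spec χ.2).1)
        (Nat.dvd_gcd h2 h1)
      have h4 : 0 < (inertia N θ).index * charDegree θ :=
        Nat.mul_pos (Nat.pos_of_ne_zero Subgroup.index_ne_zero_of_finite)
          (irr_charDegree_spec hθ).1
      omega
    -- `θ` is an invariant homomorphism
    have hTtop : inertia N θ = ⊤ := Subgroup.index_eq_one.1 (Nat.eq_one_of_mul_eq_one_right hu)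
    have hd1 : charDegree θ = 1 := Nat.eq_one_of_mul_eq_one_left hu
    obtain ⟨φ, hφ⟩ : ∃ φ : N →* ℂˣ, homVal φ = θ :=
      ⟨(CharExt.isLin_of_isCharacter hθc (by
        rw [(irr_charDegree_spec hθ).2, hd1, Nat.cast_one])).toHom, CharExt.IsLin.homVal_toHom _⟩
    have hdφ : detHom θ = φ := by
      refine CharExt.homVal_injective ?_
      rw [homVal_detHom, hφ]
      funext n
      rw [← hφ]
      show detChar (fun g => ((φ g : ℂˣ) : ℂ)) n = _
      rw [CharExt.detChar_eq (Char.linRep φ) (Char.linRep_character φ) n]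
      simp [Char.linRep, homVal]
    have hφne : φ ≠ 1 := fun h => hθ1 (by rw [← hφ, h, map_one]; rfl)
    -- powers of `φ` killed by the two degrees
    have hkey : ∀ (ζ : IrrCharacter G) (ψ : N → ℂ) (m : ℕ), IsIrrCharacter N ψ →
        classInner (fun n : N => (ζ : G → ℂ) n) ψ ≠ 0 →
        (∀ (g : G) (n : N), conjChar N g ψ (n ^ m) = homVal φ (n ^ m)) →
        (φ ^ m) ^ charDegree (ζ : G → ℂ) = 1 := by
      intro ζ ψ m hψ hζ hval
      obtain ⟨e', -, -, hres'⟩ := degree_eq N ζ.2 hψ hζ
      have hz : ∀ n : N, (ζ : G → ℂ) ↑(n ^ m) =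
          (charDegree (ζ : G → ℂ) : ℂ) * homVal φ (n ^ m) := by
        intro n
        have h1 := congrFun hres' (n ^ m)
        have h0 := congrFun hres' 1
        simp only [Pi.smul_apply, Finset.sum_apply, smul_eq_mul, OneMemClass.coe_one] at h1 h0
        rw [(irr_charDegree_spec ζ.2).2] at h0
        rw [h1, h0, mul_assoc, Finset.sum_mul]
        congr 1
        refine Finset.sum_congr rfl fun f hf => ?_
        obtain ⟨g, rfl⟩ := (CharInd.mem_conjClass N).1 hf
        have h2 := hval g 1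
        rw [one_pow] at h2
        rw [hval g n, h2, show homVal φ 1 = 1 from by simp [homVal], one_mul]
      refine MonoidHom.ext fun n => Units.ext ?_
      rw [MonoidHom.pow_apply, Units.val_pow_eq_pow_val, MonoidHom.one_apply, Units.val_one]
      refine pow_degree_eq_one ζ.2 (x := ((n ^ m : N) : G)) (hNG (n ^ m).2) _ fun k => ?_
      have h3 := hz (n ^ k)
      rw [← pow_mul n, mul_comm k m, pow_mul n] at h3
      rw [← SubmonoidClass.coe_pow, h3]
      show _ * ((φ ((n ^ m) ^ k) : ℂ)) = _ * (((φ ^ m) n : ℂ)) ^ k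
      rw [MonoidHom.pow_apply, map_pow, map_pow, Units.val_pow_eq_pow_val]
    have hfix : ∀ (g : G) (n : N), conjChar N g θ n = θ n := fun g n =>
      congrFun (CharExt.mem_inertia.1 (hTtop ▸ Subgroup.mem_top g)) n
    have ha1 : φ ^ charDegree (χ : G → ℂ) = 1 := by
      have := hkey χ θ 1 hθ hχθ (fun g n => by rw [hfix, hφ])
      refine MonoidHom.ext fun n => ?_
      have h1 := DFunLike.congr_fun this n
      simpa using h1
    have hc1 : (φ ^ rPart N r) ^ charDegree (η : G → ℂ) = 1 := by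
      refine hkey η θl (rPart N r) hθlirr hη fun g n => ?_
      rw [hθl, conjChar_mul_fun, Pi.mul_apply, hfix, hφ]
      have h1 : conjChar N g (homVal l) (n ^ rPart N r) = 1 := by
        rw [← homVal_cjHom]
        show (((cjHom N g l) (n ^ rPart N r) : ℂˣ) : ℂ) = 1
        rw [map_pow]
        show (((l _) ^ rPart N r : ℂˣ) : ℂ) = 1
        rw [← MonoidHom.pow_apply, hlq]
        rfl
      rw [h1, one_mul]
    have hc2 : φ ^ charDegree (η : G → ℂ) = 1 := MonoidHom.ext fun n => by
      rw [MonoidHom.pow_apply, MonoidHom.one_apply]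
      refine eq_one_of_pow (coprime_rCo N hr.out) ?_ ?_
      · rw [← pow_mul, mul_comm, pow_mul, ← MonoidHom.pow_apply, ← MonoidHom.pow_apply, hc1]
        rfl
      · rw [← pow_mul, mul_comm, pow_mul, ← MonoidHom.pow_apply φ (rCo N r), ← hdφ, hδ]
        simp
    have h3 : orderOf φ ∣ Nat.gcd (charDegree (χ : G → ℂ)) (charDegree (η : G → ℂ)) :=
      Nat.dvd_gcd (orderOf_dvd_of_pow_eq_one ha1) (orderOf_dvd_of_pow_eq_one hc2)
    have h4 : 1 < orderOf φ := by
      have h5 : orderOf φ ≠ 1 := fun h => hφne (orderOf_eq_one_iff.1 h)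
      have h6 : 0 < orderOf φ := Nat.pos_of_dvd_of_pos (orderOf_dvd_of_pow_eq_one ha1)
        (irr_charDegree_spec χ.2).1
      omega
    exact h4.trans_le (Nat.le_of_dvd (Nat.gcd_pos_of_pos_left _ (irr_charDegree_spec χ.2).1) h3)
  · obtain ⟨θ', hθ', hηθ', -, μ', hμ'⟩ := exists_data N P η hrc
    obtain ⟨g, rfl⟩ := (CharInd.mem_conjClass N).1
      (CharExt.mem_conjClass_of_constituent N η.2 hθlirr hθ' hη hηθ')
    refine ⟨cjHom N g (detHom θl ^ rCo N r), ⟨fun h => hlk1 ?_, ?_, μ' ^ rCo N r, fun n => ?_⟩⟩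
    · rw [← hlk, ← hdθl]
      refine MonoidHom.ext fun n => ?_
      obtain ⟨m, hm⟩ := (MulAut.conjNormal g : MulAut N).surjective n
      rw [← hm]
      exact DFunLike.congr_fun h m
    · refine MonoidHom.ext fun n => ?_
      exact DFunLike.congr_fun (pow_rCo_pow N (detHom θl) r) ((MulAut.conjNormal g : MulAut N) n)
    · rw [MonoidHom.pow_apply, hμ', detHom_conjChar N (Char.isCharacter_of_irr hθlirr)]
      show _ = ((detHom θl) ^ rCo N r) _
      rw [MonoidHom.pow_apply]
      rfl

end Cfsg.Agent.CharGraph.Rel
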