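import Cfsg.Agent.CharGraph.RelativeDet
import Mathlib.Combinatorics.SimpleGraph.Connectivity.Connected
import Mathlib.GroupTheory.FiniteAbelian.Duality

/-!
# Components of the common-divisor graph of a relative degree set
-/

namespace Cfsg.Agent.CharGraph.Rel

open Cfsg
open Cfsg.Agent.Char (irr_charDegree_spec)
open Cfsg.Agent.CharExt (homVal inertia)

universe u

variable {G : Type u} [Group G] [Finite G] (N : Subgroup G) [N.Normal]

/-- A prime dividing `|N : N'|` is the order of a homomorphism from `N` to `ℂˣ`. -/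
theorem exists_rHom {r : ℕ} (hr : r.Prime) (hd : r ∣ ⁅N, N⁆.relIndex N) :
    ∃ l : N →* ℂˣ, l ≠ 1 ∧ l ^ rPart N r = 1 := by
  haveI := Fact.mk hr
  have hcard : Nat.card (Abelianization N →* ℂˣ) = ⁅N, N⁆.relIndex N := by
    rw [CommGroup.card_monoidHom_of_hasEnoughRootsOfUnity, Subgroup.relIndex,
      show ⁅N, N⁆.subgroupOf N = commutator N from ?_]
    · exact (Subgroup.index_eq_card _).symm
    rw [← Subgroup.map_subtype_commutator, Subgroup.subgroupOf,
      Subgroup.comap_map_eq_self_of_injective N.subtype_injective]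
  obtain ⟨f, hf⟩ := exists_prime_orderOf_dvd_card' (G := Abelianization N →* ℂˣ) r
    (hcard ▸ hd)
  have hle : r ∣ rPart N r := by
    refine dvd_pow_self r (Nat.Prime.factorization_pos_of_dvd hr Nat.card_pos.ne' ?_).ne'
    exact hd.trans ((⁅N, N⁆.subgroupOf N).index_dvd_card)
  refine ⟨f.comp Abelianization.of, fun h => ?_, MonoidHom.ext fun n => ?_⟩
  · have h1 : f = 1 := Abelianization.hom_ext _ _ (by rw [h]; rfl)
    rw [h1, orderOf_one] at hf
    exact hr.one_lt.ne hf
  · obtain ⟨j, hj⟩ := hle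
    rw [MonoidHom.pow_apply, MonoidHom.comp_apply, MonoidHom.one_apply, hj, pow_mul,
      ← MonoidHom.pow_apply f r, ← hf, pow_orderOf_eq_one, MonoidHom.one_apply, one_pow]

theorem one_lt_of_mem_rel (hNG : N ≤ commutator G) {a : ℕ} (ha : a ∈ relCharDegrees N) :
    1 < a := by
  obtain ⟨χ, ⟨x, hx, hxχ⟩, rfl⟩ := ha
  have h0 := (irr_charDegree_spec χ.2).1
  rcases Nat.lt_or_ge 1 (charDegree (χ : G → ℂ)) with h | h
  · exact h
  · exfalso
    have h1 : (χ : G → ℂ) 1 = 1 := by
      rw [(irr_charDegree_spec χ.2).2, show charDegree (χ : G → ℂ) = 1 by omega, Nat.cast_one]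
    exact hxχ (by
      rw [Char.linear_eq_one_of_mem_commutator (Char.isCharacter_of_irr χ.2) h1 (hNG hx), h1])

/-- Two members are linked when a path joins them. -/
def Linked (a b : ℕ) : Prop :=
  ∃ (ha : a ∈ relCharDegrees N) (hb : b ∈ relCharDegrees N),
    (commonDivisorGraph.induce (relCharDegrees N)).Reachable ⟨a, ha⟩ ⟨b, hb⟩

variable {N}

omit [Finite G] [N.Normal] in
theorem Linked.trans {a b c : ℕ} (h : Linked N a b) (h' : Linked N b c) : Linked N a c := by
  obtain ⟨ha, _, h1⟩ := h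
  obtain ⟨_, hc, h2⟩ := h'
  exact ⟨ha, hc, h1.trans h2⟩

omit [Finite G] [N.Normal] in
theorem Linked.symm {a b : ℕ} (h : Linked N a b) : Linked N b a := by
  obtain ⟨ha, hb, h1⟩ := h
  exact ⟨hb, ha, h1.symm⟩

omit [Finite G] [N.Normal] in
theorem linked_of_gcd {a b : ℕ} (ha : a ∈ relCharDegrees N) (hb : b ∈ relCharDegrees N)
    (h : 1 < Nat.gcd a b) : Linked N a b := by
  refine ⟨ha, hb, ?_⟩
  by_cases hab : a = b
  · subst hab; exact SimpleGraph.Reachable.refl _
  · exact SimpleGraph.Adj.reachable ⟨hab, h⟩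

/-- A common divisor exceeding one is inherited by multiples. -/
theorem one_lt_gcd {a b s t : ℕ} (hst : ¬ s.Coprime t) (hs : s ∣ a) (ht : t ∣ b) (ha : 0 < a) :
    1 < Nat.gcd a b := by
  have h0 : 0 < Nat.gcd a b := Nat.gcd_pos_of_pos_left _ ha
  by_contra h
  exact hst (Nat.Coprime.coprime_dvd_left hs (Nat.Coprime.coprime_dvd_right ht
    (show Nat.gcd a b = 1 by omega)))

variable (N)

theorem linked_refl (hNG : N ≤ commutator G) {a : ℕ} (ha : a ∈ relCharDegrees N) :
    Linked N a a :=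
  linked_of_gcd ha ha (by rw [Nat.gcd_self]; exact one_lt_of_mem_rel N hNG ha)

/-- The members in `X`. -/
def InX (a : ℕ) : Prop :=
  a ∈ relCharDegrees N ∧ ∃ r : ℕ, r.Prime ∧ r ∣ ⁅N, N⁆.relIndex N ∧ ¬ r ∣ a

theorem exists_multiple {r : ℕ} [Fact r.Prime] (P : Sylow r G) {ν : N →* ℂˣ}
    (hν : ν ∈ LSet N P) :
    ∃ c ∈ relCharDegrees N, (inertia N (homVal ν)).index ∣ c := by
  obtain ⟨χ, -, hC, hd⟩ := exists_over N (θ := homVal ν) (Char.isIrrCharacter_monoidHom ν)
    (homVal_ne_one N hν.1)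
  exact ⟨_, hC, dvd_of_mul_right_dvd hd⟩

/-- The members in `X` are linked. -/
theorem linked_of_inX (hNG : N ≤ commutator G) {a b : ℕ} (ha : InX N a) (hb : InX N b) :
    Linked N a b := by
  classical
  letI P (r : ℕ) : Sylow r G := default
  by_cases hex : ∃ r : ℕ, r.Prime ∧ r ∣ ⁅N, N⁆.relIndex N ∧ LSet N (P r) = ∅
  · obtain ⟨r, hr, hrm, hemp⟩ := hex
    haveI := Fact.mk hr
    have key : ∀ x ∈ relCharDegrees N, ∃ y ∈ relCharDegrees N, r ∣ y ∧ Linked N x y := by
      intro x hx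
      by_cases hrx : r ∣ x
      · exact ⟨x, hx, hrx, linked_refl N hNG hx⟩
      · obtain ⟨l, hl, hlq⟩ := exists_rHom N hr hrm
        rcases alternative N (P r) hNG hx hrx with ⟨ν, hν, -⟩ | h
        · exact absurd hν (hemp ▸ fun h => h)
        · obtain ⟨c, hc, hg, -, hrc⟩ := h l hl hlq
          refine ⟨c, hc, ?_, linked_of_gcd hx hc hg⟩
          by_contra h'
          obtain ⟨ν, hν⟩ := hrc h'
          rw [hemp] at hν
          exact hν
    obtain ⟨y, hy, hry, hay⟩ := key a ha.1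
    obtain ⟨z, hz, hrz, hbz⟩ := key b hb.1
    refine hay.trans ((linked_of_gcd hy hz ?_).trans hbz.symm)
    exact one_lt_gcd (s := r) (t := r) (fun h => hr.one_lt.ne' ((Nat.coprime_self r).1 h)) hry hrz
      (zero_lt_one.trans (one_lt_of_mem_rel N hNG hy))
  push Not at hex
  -- an anchor for each member
  have anchor : ∀ x, InX N x → ∃ (r : ℕ) (_ : Fact r.Prime) (ν : N →* ℂˣ) (c : ℕ),
      ν ∈ LSet N (P r) ∧ c ∈ relCharDegrees N ∧ (inertia N (homVal ν)).index ∣ c ∧
        Linked N x c := by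
    rintro x ⟨hx, r, hr, hrm, hrx⟩
    haveI := Fact.mk hr
    refine ⟨r, inferInstance, ?_⟩
    rcases alternative N (P r) hNG hx hrx with ⟨ν, hν, hd⟩ | h
    · exact ⟨ν, x, hν, hx, hd, linked_refl N hNG hx⟩
    · obtain ⟨ν, hν⟩ := hex r hr hrm
      obtain ⟨c, hc, hg, hd, -⟩ := h ν hν.1 hν.2.1
      exact ⟨ν, c, hν, hc, hd, linked_of_gcd hx hc hg⟩
  obtain ⟨r, hr, ν, c, hν, hc, hνc, hac⟩ := anchor a ha
  obtain ⟨s, hs, μ, d, hμ, hd, hμd, hbd⟩ := anchor b hb
  refine hac.trans (Linked.trans ?_ hbd.symm)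
  have hc0 : 0 < c := zero_lt_one.trans (one_lt_of_mem_rel N hNG hc)
  by_cases hcop : (inertia N (homVal ν)).index.Coprime (inertia N (homVal μ)).index
  swap
  · exact linked_of_gcd hc hd (one_lt_gcd hcop hνc hμd hc0)
  by_cases hrs : r = s
  · subst hrs
    obtain ⟨hmem, h1, h2⟩ := exists_common N (P r) hNG hν hμ hcop
    obtain ⟨f, hf, hfd⟩ := exists_multiple N (P r) hmem
    have hf0 : 0 < f := zero_lt_one.trans (one_lt_of_mem_rel N hNG hf)
    exact (linked_of_gcd hf hc (one_lt_gcd h1 hfd hνc hf0)).symm.trans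
      (linked_of_gcd hf hd (one_lt_gcd h2 hfd hμd hf0))
  · have hco : (rPart N r).Coprime (rPart N s) :=
      Nat.Coprime.pow _ _ ((Nat.coprime_primes hr.out hs.out).2 hrs)
    have hsub : ∀ (x y : N →* ℂˣ) (p q : ℕ), p.Coprime q → x ^ p = 1 → y ^ q = 1 →
        inertia N (homVal (x * y)) ≤ inertia N (homVal x) := by
      intro x y p q hpq hx hy
      obtain ⟨j, hj⟩ : ∃ j, (x ^ q) ^ j = x := exists_pow_eq_self_of_coprime (x := x) (n := q)
        (Nat.Coprime.coprime_dvd_right (orderOf_dvd_of_pow_eq_one hx) hpq.symm)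
      have h3 : ((x * y) ^ q) ^ j = x := MonoidHom.ext fun n => by
        have h4 : y n ^ q = 1 := DFunLike.congr_fun hy n
        have h5 : (x n ^ q) ^ j = x n := DFunLike.congr_fun hj n
        simp only [MonoidHom.pow_apply, MonoidHom.mul_apply, mul_pow, h4, one_pow, mul_one, h5]
      conv_rhs => rw [← h3, homVal_pow, homVal_pow]
      exact (inertia_le_pow N _ _).trans (inertia_le_pow N _ _)
    have h1 := hsub ν μ _ _ hco hν.2.1 hμ.2.1
    have h2 : inertia N (homVal (ν * μ)) ≤ inertia N (homVal μ) := by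
      have := hsub μ ν _ _ hco.symm hμ.2.1 hν.2.1
      rwa [show μ * ν = ν * μ from MonoidHom.ext fun n => mul_comm _ _] at this
    have hne : ν * μ ≠ 1 := fun h => by
      rw [h, show inertia N (homVal (1 : N →* ℂˣ)) = ⊤ from eq_top_iff.2 fun y _ => rfl,
        top_le_iff] at h1
      exact index_ne_one N (P r) hNG hν (by rw [h1, Subgroup.index_top])
    obtain ⟨χ, -, hf, hfd⟩ := exists_over N (θ := homVal (ν * μ))
      (Char.isIrrCharacter_monoidHom (ν * μ)) (homVal_ne_one N hne)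
    have hfd' := dvd_of_mul_right_dvd hfd
    have hf0 : 0 < charDegree (χ : G → ℂ) := zero_lt_one.trans (one_lt_of_mem_rel N hNG hf)
    have hnc : ∀ t : ℕ, t ≠ 1 → ¬ t.Coprime t := fun t ht h => ht ((Nat.coprime_self t).1 h)
    exact (linked_of_gcd hf hc (one_lt_gcd (hnc _ (index_ne_one N (P r) hNG hν))
      ((Subgroup.index_dvd_of_le h1).trans hfd') hνc hf0)).symm.trans
      (linked_of_gcd hf hd (one_lt_gcd (hnc _ (index_ne_one N (P s) hNG hμ))
      ((Subgroup.index_dvd_of_le h2).trans hfd') hμd hf0))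

end Cfsg.Agent.CharGraph.Rel
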