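import Cfsg.Agent.CharGraph.RelativeAnchor

/-!
# Components of a disconnected relative degree graph
-/

namespace Cfsg.Agent.CharGraph.Rel

open Cfsg

universe u

variable {G : Type u} [Group G] [Finite G] (N : Subgroup G) [N.Normal]

theorem exists_prime_m [Group.IsSolvable N] {a : ℕ} (ha : a ∈ relCharDegrees N) :
    ∃ p : ℕ, p.Prime ∧ p ∣ ⁅N, N⁆.relIndex N := by
  refine Nat.exists_prime_and_dvd fun h => ?_
  obtain ⟨χ, ⟨x, hx, hxχ⟩, -⟩ := ha
  have hN : N ≠ ⊥ := fun hb => by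
    rw [hb, Subgroup.mem_bot] at hx
    exact hxχ (by rw [hx])
  have : Nontrivial N := (Subgroup.nontrivial_iff_ne_bot N).2 hN
  refine (Group.IsSolvable.commutator_lt_top_of_nontrivial (G := N)).ne ?_
  refine (Subgroup.map_injective N.subtype_injective) ?_
  rw [Subgroup.map_subtype_commutator, ← MonoidHom.range_eq_map, Subgroup.range_subtype]
  exact le_antisymm (Subgroup.commutator_le_self N) (Subgroup.relIndex_eq_one.1 h)

theorem not_inX {a : ℕ} (ha : a ∈ relCharDegrees N) (h : ¬ InX N a) {r : ℕ} (hr : r.Prime)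
    (hrm : r ∣ ⁅N, N⁆.relIndex N) : r ∣ a := by
  by_contra hd
  exact h ⟨ha, r, hr, hrm, hd⟩

theorem gcd_of_prime {a b r : ℕ} (hr : r.Prime) (ha : r ∣ a) (hb : r ∣ b) (ha0 : 0 < a) :
    1 < Nat.gcd a b :=
  hr.one_lt.trans_le (Nat.le_of_dvd (Nat.gcd_pos_of_pos_left _ ha0) (Nat.dvd_gcd ha hb))

/-- In the disconnected case the members outside `X` form one component, and `X` the other, where
any two members have a common neighbour. -/
theorem disconnected_shape [Group.IsSolvable N] (hNG : N ≤ commutator G)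
    (hdisc : ¬ (commonDivisorGraph.induce (relCharDegrees N)).Preconnected) :
    ∃ a₀ : relCharDegrees N,
      (∀ b : relCharDegrees N, (commonDivisorGraph.induce (relCharDegrees N)).Reachable a₀ b →
        ∀ r : ℕ, r.Prime → r ∣ ⁅N, N⁆.relIndex N → r ∣ (b : ℕ)) ∧
      ∀ b c : relCharDegrees N, ¬ (commonDivisorGraph.induce (relCharDegrees N)).Reachable a₀ b →
        ¬ (commonDivisorGraph.induce (relCharDegrees N)).Reachable a₀ c →
        ∃ f : relCharDegrees N, 1 < Nat.gcd b f ∧ 1 < Nat.gcd f c := by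
  set Γ := commonDivisorGraph.induce (relCharDegrees N) with hΓ
  have hX : ∀ x y : relCharDegrees N, InX N x → InX N y → Γ.Reachable x y := by
    rintro ⟨x, hx⟩ ⟨y, hy⟩ h h'
    obtain ⟨_, _, h1⟩ := linked_of_inX N hNG h h'
    exact h1
  have hgcd : ∀ x y : relCharDegrees N, 1 < Nat.gcd x y → Γ.Reachable x y := by
    rintro ⟨x, hx⟩ ⟨y, hy⟩ h
    obtain ⟨_, _, h1⟩ := linked_of_gcd hx hy h
    exact h1
  obtain ⟨a₀, ha₀⟩ : ∃ a : relCharDegrees N, ¬ InX N a := by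
    by_contra h
    push Not at h
    exact hdisc fun x y => hX x y (h x) (h y)
  have hpos : ∀ x : relCharDegrees N, 0 < (x : ℕ) := fun x =>
    zero_lt_one.trans (one_lt_of_mem_rel N hNG x.2)
  obtain ⟨p₁, hp₁, hp₁m⟩ := exists_prime_m N a₀.2
  have hY : ∀ x : relCharDegrees N, ¬ InX N x → Γ.Reachable a₀ x := fun x hx =>
    hgcd a₀ x (gcd_of_prime hp₁ (not_inX N a₀.2 ha₀ hp₁ hp₁m) (not_inX N x.2 hx hp₁ hp₁m)
      (hpos a₀))
  have hsep : ∀ x : relCharDegrees N, Γ.Reachable a₀ x → ¬ InX N x := fun x hx hxX => hdisc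
    (fun u v => by
      have : ∀ w : relCharDegrees N, Γ.Reachable a₀ w := fun w => by
        by_cases hw : InX N w
        · exact hx.trans (hX x w hxX hw)
        · exact hY w hw
      exact (this u).symm.trans (this v))
  have hcoM : ∀ x : relCharDegrees N, ¬ Γ.Reachable a₀ x → CoM N x := fun x hx s hs hsm hsx =>
    hx (hgcd a₀ x (gcd_of_prime hs (not_inX N a₀.2 ha₀ hs hsm) hsx (hpos a₀)))
  refine ⟨a₀, fun b hb r hr hrm => not_inX N b.2 (hsep b hb) hr hrm, fun b c hb hc => ?_⟩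
  by_cases hbA : Anch N b
  · obtain ⟨f, hf, h1, h2⟩ := common_of_coM N hNG c.2 (hcoM c hc) b.2 hbA
    exact ⟨⟨f, hf⟩, by rwa [Nat.gcd_comm], by rwa [Nat.gcd_comm]⟩
  by_cases hcA : Anch N c
  · obtain ⟨f, hf, h1, h2⟩ := common_of_coM N hNG b.2 (hcoM b hb) c.2 hcA
    exact ⟨⟨f, hf⟩, h1, h2⟩
  obtain ⟨p, hp, hdata⟩ := exists_unanchored_data N hNG
  have key : ∀ x : relCharDegrees N, ¬ Γ.Reachable a₀ x → ¬ Anch N x → p ∣ (x : ℕ) := by
    intro x hx hxA
    obtain ⟨d, hd1, hdx, -, hpd | ⟨w, hw, hdw, s, hs, hsm, hsw⟩⟩ := hdata x x.2 (hcoM x hx) hxA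
    · exact hpd.trans hdx
    · refine absurd ?_ hx
      refine (hgcd a₀ ⟨w, hw⟩ (gcd_of_prime hs (not_inX N a₀.2 ha₀ hs hsm) hsw (hpos a₀))).trans
        (hgcd ⟨w, hw⟩ x ?_)
      exact hd1.trans_le (Nat.le_of_dvd (Nat.gcd_pos_of_pos_right _ (hpos x))
        (Nat.dvd_gcd hdw hdx))
  exact ⟨b, by rw [Nat.gcd_self]; exact one_lt_of_mem_rel N hNG b.2,
    gcd_of_prime hp (key b hb hbA) (key c hc hcA) (hpos b)⟩

end Cfsg.Agent.CharGraph.Rel
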