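import Cfsg.Agent.CharGraph.PDegreeBasic
import Cfsg.Agent.Char.Burnside

/-!
# A non-solvable group has at least three primes among its character degrees

Column orthogonality at a central element of a Sylow `q`-subgroup, with Burnside's lemma on
degrees coprime to class sizes: no non-abelian simple group has all degrees `{p, q}`-numbers.
-/

set_option autoImplicit false
set_option linter.style.haveILetI false

namespace Cfsg.Agent.CharGraph

open Cfsg
open Cfsg.Agent

universe u

variable {G : Type u} [Group G] [Finite G]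

/-- A faithful vanishing lemma: in a non-abelian simple group a nonprincipal character of degree
coprime to the size of the class of `z ≠ 1` vanishes at `z`. -/
theorem eq_zero_of_coprime [IsSimpleGroup G] (hna : ¬ ∀ a b : G, a * b = b * a)
    (χ : IrrCharacter G) (hχ : (χ : G → ℂ) ≠ fun _ => 1) {z : G} (hz : z ≠ 1) {d : ℕ}
    (hd : (χ : G → ℂ) 1 = d)
    (hcop : Nat.Coprime d (Subgroup.centralizer ({z} : Set G)).index) :
    (χ : G → ℂ) z = 0 := by
  classical
  letI := Fintype.ofFinite G
  by_contra hne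
  obtain ⟨n, ρ, hρ, hρχ⟩ := χ.2
  have hd' : Module.finrank ℂ (Fin n → ℂ) = d := by
    rw [← hρχ, ρ.char_one] at hd; exact_mod_cast hd
  have hscal : ‖(χ : G → ℂ) z‖ = ((χ : G → ℂ) 1).re := by
    rw [← hρχ] at hne ⊢
    rcases Char.character_eq_zero_or_norm_eq ρ z (hd'.symm ▸ hcop) with h | h
    · exact absurd h hne
    · simpa using h
  have hcχ := Char.isCharacter_of_irr χ.2
  obtain ⟨K, hKn, hK⟩ := Char.isCharacter_exists_kernel hcχ
  have hKbot : K = ⊥ := by
    rcases hKn.eq_bot_or_eq_top with h | h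
    · exact h
    exfalso
    have hconst : ∀ x, (χ : G → ℂ) x = (χ : G → ℂ) 1 := fun x =>
      (hK x).mp (h ▸ Subgroup.mem_top x)
    have hsum := Char.irr_sum_eq_zero χ.2 hχ
    simp [hconst] at hsum
    exact Char.irr_one_ne_zero χ.2 hsum
  obtain ⟨ω, -, hmul⟩ := Char.isCharacter_mul_of_norm_eq hcχ hscal
  have hcen : z ∈ Subgroup.center G := by
    refine Subgroup.mem_center_iff.mpr fun x => ?_
    have hmem : z * (x * z⁻¹ * x⁻¹) ∈ K := by
      rw [hK, (hmul _).1, Char.isCharacter_isClassFunction hcχ z⁻¹ x, ← (hmul z⁻¹).1,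
        mul_inv_cancel]
    rw [hKbot, Subgroup.mem_bot] at hmem
    have h3 : z * x * z⁻¹ * x⁻¹ = 1 := by simpa [mul_assoc] using hmem
    rw [mul_inv_eq_one, mul_inv_eq_iff_eq_mul] at h3
    exact h3.symm
  rcases (inferInstance : (Subgroup.center G).Normal).eq_bot_or_eq_top with h | h
  · rw [h, Subgroup.mem_bot] at hcen; exact hz hcen
  · exact hna fun a b => Subgroup.mem_center_iff.mp (h ▸ Subgroup.mem_top b) a

/-- No non-abelian simple group has only two primes among its degrees. -/
theorem exists_third_prime_simple [IsSimpleGroup G] (hna : ¬ ∀ a b : G, a * b = b * a)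
    {p : ℕ} (hp : p.Prime) (q : ℕ) :
    ∃ r : ℕ, r.Prime ∧ r ≠ p ∧ r ≠ q ∧ ∃ χ : IrrCharacter G, r ∣ charDegree (χ : G → ℂ) := by
  classical
  letI := Fintype.ofFinite G
  by_contra hc
  push Not at hc
  -- degrees prime to `p` are powers of `q`
  have hdeg : ∀ χ : IrrCharacter G, ¬ p ∣ charDegree (χ : G → ℂ) →
      ∀ r : ℕ, r.Prime → r ∣ charDegree (χ : G → ℂ) → r = q := by
    intro χ hpχ r hr hrd
    by_contra hrq
    exact hc r hr (fun e => hpχ (e ▸ hrd)) hrq χ hrd
  obtain ⟨z, hz1, hzc⟩ : ∃ z : G, z ≠ 1 ∧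
      (q.Prime → q ∣ Nat.card G → ¬ q ∣ (Subgroup.centralizer ({z} : Set G)).index) := by
    by_cases h : q.Prime ∧ q ∣ Nat.card G
    · obtain ⟨hq, hqG⟩ := h
      haveI := Fact.mk hq
      obtain ⟨Q⟩ : Nonempty (Sylow q G) := inferInstance
      haveI : Nontrivial (Q : Subgroup G) := by
        rw [Subgroup.nontrivial_iff_ne_bot]
        exact Sylow.ne_bot_of_dvd_card Q hqG
      haveI := Q.2.center_nontrivial
      obtain ⟨z, hz⟩ := exists_ne (1 : Subgroup.center (Q : Subgroup G))
      refine ⟨((z : (Q : Subgroup G)) : G), fun e => hz (Subtype.ext (Subtype.ext e)), fun _ _ hd => ?_⟩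
      refine Q.not_dvd_index (hd.trans (Subgroup.index_dvd_of_le fun x hx => ?_))
      exact Subgroup.mem_centralizer_singleton_iff.2
        (congrArg Subtype.val (Subgroup.mem_center_iff.1 z.2 ⟨x, hx⟩))
    · haveI := (inferInstance : Nontrivial G)
      obtain ⟨z, hz⟩ := exists_ne (1 : G)
      exact ⟨z, hz, fun a b => absurd ⟨a, b⟩ h⟩
  set triv : IrrCharacter G := Char.trivialIrr G
  have htriv : (triv : G → ℂ) = fun _ => 1 := rfl
  have horth := Char.sum_irr_degree_mul z
  rw [if_neg hz1, ← Finset.add_sum_erase _ _ (Finset.mem_univ triv)] at horth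
  have hint : IsIntegral ℤ (∑ χ ∈ Finset.univ.erase triv,
      (χ : G → ℂ) 1 * (χ : G → ℂ) z / (p : ℂ)) := by
    refine IsIntegral.sum _ fun χ hχ => ?_
    have hne : (χ : G → ℂ) ≠ fun _ => 1 := fun e =>
      Finset.ne_of_mem_erase hχ (Subtype.ext (e.trans htriv.symm))
    obtain ⟨hd, hdpos⟩ : (χ : G → ℂ) 1 = (charDegree (χ : G → ℂ) : ℂ) ∧
        0 < charDegree (χ : G → ℂ) := by
      obtain ⟨a, b⟩ := Char.irr_charDegree_spec χ.2
      exact ⟨b, a⟩
    by_cases hpd : p ∣ charDegree (χ : G → ℂ)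
    · obtain ⟨e, he⟩ := hpd
      rw [hd, he, Nat.cast_mul, mul_assoc,
        mul_div_cancel_left₀ _ (Nat.cast_ne_zero.mpr hp.ne_zero)]
      exact (Char.isIntegral_of_nat e).mul
        (Char.isCharacter_isIntegral (Char.isCharacter_of_irr χ.2) z)
    · have hzero : (χ : G → ℂ) z = 0 := by
        refine eq_zero_of_coprime hna χ hne hz1 hd ?_
        refine Nat.coprime_of_dvd fun r hr hr1 hr2 => ?_
        have hrq := hdeg χ hpd r hr hr1
        subst hrq
        exact hzc hr (hr1.trans (BlkChar.irr_charDegree_dvd_card χ)) hr2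
      simp [hzero, isIntegral_zero]
  rw [← Finset.sum_div] at hint
  have h1 : (triv : G → ℂ) 1 * (triv : G → ℂ) z = 1 := by rw [htriv]; simp
  rw [h1] at horth
  rw [show (∑ χ ∈ Finset.univ.erase triv, (χ : G → ℂ) 1 * (χ : G → ℂ) z) = -1 from
    eq_neg_of_add_eq_zero_right horth, neg_div] at hint
  have h2 : IsIntegral ℤ (((1 : ℕ) : ℂ) / (p : ℂ)) := by simpa using hint.neg
  exact hp.one_lt.ne' (Nat.dvd_one.mp (Char.dvd_of_isIntegral_div hp.ne_zero h2))

/-- The primes of the degrees of a quotient are primes of degrees of the group. -/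
theorem degreePrimes_quotient_subset (N : Subgroup G) [N.Normal] :
    degreePrimes (G ⧸ N) ⊆ degreePrimes G := by
  rintro r ⟨hr, d, ⟨β, rfl⟩, hrd⟩
  exact ⟨hr, _, ⟨inflate N β, rfl⟩, by rw [charDegree_inflate]; exact hrd⟩

/-- The primes of the degrees of a normal subgroup are primes of degrees of the group. -/
theorem degreePrimes_normal_subset (H : Subgroup G) [H.Normal] :
    degreePrimes H ⊆ degreePrimes G := by
  letI := Fintype.ofFinite G
  letI := Fintype.ofFinite H
  rintro r ⟨hr, d, ⟨ψ, rfl⟩, hrd⟩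
  obtain ⟨χ, hχ⟩ := exists_irr_over H ψ
  exact ⟨hr, _, ⟨χ, rfl⟩, hrd.trans (CharDeep.degree_ratio_dvd_index H χ.2 ψ.2 hχ
    (Char.irr_charDegree_spec χ.2).2 (Char.irr_charDegree_spec ψ.2).2).1⟩

/-- A non-solvable group has, outside any two given numbers, a further prime among its degrees. -/
theorem exists_third_prime_of_not_solvable : ∀ {G : Type u} [Group G] [Finite G],
    ¬ Group.IsSolvable G → ∀ p : ℕ, p.Prime → ∀ q : ℕ,
      ∃ r ∈ degreePrimes G, r ≠ p ∧ r ≠ q := by
  intro G _ _
  induction hn : Nat.card G using Nat.strong_induction_on generalizing G with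
  | _ n ih =>
    intro hns p hp q
    subst hn
    haveI : Nontrivial G := by
      by_contra h
      rw [not_nontrivial_iff_subsingleton] at h
      exact hns (Group.isSolvable_of_comm fun a b => Subsingleton.elim _ _)
    by_cases hsimp : IsSimpleGroup G
    · have hna : ¬ ∀ a b : G, a * b = b * a := fun h => hns (Group.isSolvable_of_comm h)
      obtain ⟨r, hr, hrp, hrq, χ, hχ⟩ := exists_third_prime_simple hna hp q
      exact ⟨r, ⟨hr, _, ⟨χ, rfl⟩, hχ⟩, hrp, hrq⟩
    obtain ⟨N, hN, hb, ht⟩ : ∃ N : Subgroup G, N.Normal ∧ N ≠ ⊥ ∧ N ≠ ⊤ := by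
      by_contra hc
      refine hsimp ⟨fun N hN => ?_⟩
      by_contra h'
      exact hc ⟨N, hN, fun e => h' (Or.inl e), fun e => h' (Or.inr e)⟩
    by_cases hNs : Group.IsSolvable N
    · have hlt : Nat.card (G ⧸ N) < Nat.card G := by
        rw [Subgroup.card_eq_card_quotient_mul_card_subgroup N]
        exact lt_mul_of_one_lt_right Nat.card_pos (Subgroup.one_lt_card_iff_ne_bot N |>.2 hb)
      have hqs : ¬ Group.IsSolvable (G ⧸ N) := fun h => hns
        (Group.isSolvable_of_ker_le_range N.subtype (QuotientGroup.mk' N)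
          (by rw [QuotientGroup.ker_mk', Subgroup.range_subtype]))
      obtain ⟨r, hr, h1, h2⟩ := ih _ hlt rfl hqs p hp q
      exact ⟨r, degreePrimes_quotient_subset N hr, h1, h2⟩
    · have hlt : Nat.card N < Nat.card G := by
        refine lt_of_le_of_ne (Subgroup.card_le_card_group N) fun e => ht ?_
        exact Subgroup.eq_top_of_card_eq N e
      obtain ⟨r, hr, h1, h2⟩ := ih _ hlt rfl hNs p hp q
      exact ⟨r, degreePrimes_normal_subset N hr, h1, h2⟩

end Cfsg.Agent.CharGraph
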